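import Cfsg.Agent.KZ.Lie.Desc

/-!
# KZ: change of the admissible matrices by the Frobenius (helper14)
-/

set_option autoImplicit false
set_option linter.unusedSectionVars false

namespace Cfsg.Agent.KZ.Cl

open Cfsg Cfsg.Agent.DL Cfsg.Agent.DL.PP Cfsg.Agent.KZ.Lie Matrix

variable {p : ℕ} [Fact p.Prime] {k : Type} [Field k] [CharP k p] {Y : Type} [Group Y] {N : Type} [Fintype N]
  [DecidableEq N] {ρ : Y →* GL N k} {F : MulAut Y} {G : Subgroup Y} [IsAlgClosed k] {D : Datum p ρ F G}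

theorem au_comp {α β : MulAut Y} {A B : Matrix D.R D.R ℤ} (h : Au D α A) (h' : Au D β B) : Au D (α * β) (A * B) where
  comm y := by rw [MulAut.mul_apply, MulAut.mul_apply, h'.comm, h.comm]
  memG y := (h.memG _).trans (h'.memG y)
  memT y := (h.memT _).trans (h'.memT y)
  memU y := (h.memU _).trans (h'.memU y)
  tau c := by rw [MulAut.mul_apply, h'.tau, h.tau, mon_mul]

theorem au_F (h : D.QS) : Au D F D.Mx :=
  ⟨fun _ => rfl, D.F_mem_G_iff, D.F_mem_T_iff, h.F_mem_U, D.F_τ⟩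

variable {Adm Adm' : Matrix D.R D.R ℤ → Prop} {S : Type} [Group S]

/-- the same situation with other admissible matrices -/
def reAdm (s : Sit D Adm S) (h1 : Adm' 1) (h : ∀ A, Adm A → Adm' A ∨ Adm' (A * D.Mx)) : Sit D Adm' S where
  qs := s.qs
  adm_one := h1
  H0 := s.H0
  le := s.le
  comm := s.comm
  uni := s.uni
  π := s.π
  surj := s.surj
  ker := s.ker
  aut σ := by
    obtain ⟨g, hg, α, A, h2, h3, h4⟩ := s.aut σ
    rcases h A h3 with h5 | h5
    · exact ⟨g, hg, α, A, h2, h5, h4⟩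
    · refine ⟨g, hg, α * F, _, au_comp h2 (au_F s.qs), h5, fun x => ?_⟩
      rw [MulAut.mul_apply, (mem_GF.1 (s.le x.2)).2]
      exact h4 x

theorem reAdm_cop [Fintype ↥(GF F G)] {s : Sit D Adm S} (h1 : Adm' 1) (h : ∀ A, Adm A → Adm' A ∨ Adm' (A * D.Mx))
    (hc : s.Cop) : (reAdm s h1 h).Cop := ⟨hc.idx, hc.ker⟩

end Cfsg.Agent.KZ.Cl
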