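import Cfsg.Agent.KZ.Cl.Defs
import Cfsg.Agent.KZ.Lie.Desc

/-!
# KZ, blocks of type `A`: the characters (helper14)

`B.X f x μ e` is the average of `μ(g) sg ^ e R_{j(g) u w₀}(x ^ xv)`.  It is an irreducible character up to a sign
(`X_gen`, `ip_X`), and a member (`exists_mem`).
-/

set_option autoImplicit false
set_option linter.unusedSectionVars false

namespace Cfsg.Agent.KZ.Cl

open Cfsg Cfsg.Agent.DL Cfsg.Agent.DL.PP Cfsg.Agent.KZ.Lie Cfsg.Agent.KZ.Sym Cfsg.Agent.Characters.Core Matrix Equiv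
open scoped ComplexConjugate

/-- a nontrivial root of unity of `3`-power order -/
def N3 (x : ℂˣ) : Prop := x ≠ 1 ∧ ∃ i : ℕ, x ^ 3 ^ i = 1

theorem N3.dvd {x : ℂˣ} (h : N3 x) {z : ℤ} (hz : x ^ z = 1) : 3 ∣ z := by
  obtain ⟨h1, i, hi⟩ := h
  obtain ⟨j, -, hj⟩ := (Nat.dvd_prime_pow Nat.prime_three).1 (orderOf_dvd_of_pow_eq_one hi)
  have h2 := orderOf_dvd_iff_zpow_eq_one.2 hz
  rw [hj] at h2
  rcases j with _ | j
  · exact absurd (orderOf_eq_one_iff.1 hj) h1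
  · exact (Dvd.intro_left (3 ^ j) (by push_cast; ring)).trans h2

theorem N3.zpow {x : ℂˣ} (h : N3 x) {s : ℤ} (hs : ¬ 3 ∣ s) : N3 (x ^ s) :=
  ⟨fun e => hs (h.dvd e), h.2.imp fun i hi => by
    rw [← zpow_natCast, ← _root_.zpow_mul, mul_comm, _root_.zpow_mul, zpow_natCast, hi, _root_.one_zpow]⟩

/-- averages along a homomorphism -/
theorem avg_hom {Γ W : Type*} [Group Γ] [Fintype Γ] [Group W] (Ψ : Γ →* W) {H : Subgroup W} (h : Ψ.range = H)
    (a : W → ℂ) : (Nat.card H : ℂ)⁻¹ * ∑ᶠ u : H, a u = (Nat.card Γ : ℂ)⁻¹ * ∑ γ, a (Ψ γ) := by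
  subst h
  have : Finite Ψ.range := Finite.of_surjective _ Ψ.rangeRestrict_surjective
  have := Fintype.ofFinite Ψ.range
  have h1 : ∀ z : Ψ.range, Nat.card {x // Ψ.rangeRestrict x = z} = Nat.card Ψ.ker := fun z => by
    obtain ⟨x, rfl⟩ := Ψ.rangeRestrict_surjective z
    rw [← Ψ.ker_rangeRestrict]
    exact Nat.card_congr (Ψ.rangeRestrict.fiberEquivKer x)
  have h2 := sum_fib Ψ.rangeRestrict fun z => a z
  simp only [h1, MonoidHom.coe_rangeRestrict, ← Finset.mul_sum] at h2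
  have h3 : (Nat.card Ψ.ker : ℂ) ≠ 0 := Nat.cast_ne_zero.2 Nat.card_pos.ne'
  rw [h2, finsum_eq_sum_of_fintype, ← Subgroup.card_mul_index Ψ.ker, Subgroup.index_ker, Nat.cast_mul, mul_inv,
    mul_comm (_⁻¹) (_⁻¹), mul_assoc, inv_mul_cancel_left₀ h3]

variable {p : ℕ} [Fact p.Prime] {k : Type} [Field k] [CharP k p] {Y : Type} [Group Y] {N : Type} [Fintype N]
  [DecidableEq N] {ρ : Y →* GL N k} {F : MulAut Y} {G : Subgroup Y} [IsAlgClosed k] {D : Datum p ρ F G}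

theorem chr_cx (xv v : D.R → ℤ) (x : ℂˣ) : chr v (cx D xv x) = x ^ (xv ⬝ᵥ v) := by
  rw [dotProduct_comm]
  exact chr_coch v xv x

theorem cx_zpow (xv : D.R → ℤ) (x : ℂˣ) (s : ℤ) : cx D xv (x ^ s) = cx D xv x ^ s := funext fun i => by
  show (x ^ s) ^ xv i = (x ^ xv i) ^ s
  rw [← _root_.zpow_mul, mul_comm, _root_.zpow_mul]

theorem rel_cx {xv : D.R → ℤ} {v : D.W} (h : xv ᵥ* D.Wm v = xv) (x : ℂˣ) : Rel D v (cx D xv x) (cx D xv x) := fun z => by
  rw [chr_cx, chr_cx, dotProduct_mulVec, h]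

theorem is3_cx (xv : D.R → ℤ) {x : ℂˣ} (h : N3 x) : Is3 D (cx D xv x) := h.2.imp fun i hi => by
  rw [← zpow_natCast, ← cx_zpow, zpow_natCast, hi]
  exact funext fun _ => _root_.one_zpow _

theorem is3_of_rel {v : D.W} {c c' : Lbl D} (h : Rel D v c c') (hc : Is3 D c) : Is3 D c' := hc.imp fun i hi =>
  eq_of_chr D fun z => by rw [map_pow, ← h.symm z, ← map_pow, hi, map_one, map_one]

theorem tau_mul (w₀ a b : D.W) : tau D w₀ (a * b) = tau D w₀ a * tau D w₀ b := by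
  simp only [tau, map_mul]
  group

theorem tau_inv (w₀ a : D.W) : tau D w₀ a⁻¹ = (tau D w₀ a)⁻¹ := by
  simp only [tau, map_inv]
  group

theorem tau_one (w₀ : D.W) : tau D w₀ 1 = 1 := by simp [tau]

theorem tau_of_mem {w₀ v : D.W} (h : v ∈ CW D w₀) : tau D w₀ v = v := tau_eq_iff.2 (mem_CW_iff.1 h)

theorem tc_iff' {w₀ v u u' : D.W} : Tc D v (u * w₀) (u' * w₀) ↔ u' * tau D w₀ v = v * u := by
  rw [Tc, tau, ← mul_assoc, ← mul_assoc, ← mul_assoc, mul_inv_eq_iff_eq_mul]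

/-- `1` or the sign character -/
noncomputable def se (e : Bool) (w : D.W) : ℂ := if e then sg D w else 1

theorem se_tc (e : Bool) {v w w' : D.W} (h : Tc D v w w') : se e w' = se e w := by rw [se, se, sg_tc D h]

theorem se_mul (e : Bool) (a b : D.W) : se e (a * b) = se e a * se e b := by
  cases e
  · exact (one_mul 1).symm
  · exact sg_mul D a b

theorem se_self (e : Bool) (a : D.W) : se e a * se e a = 1 := by
  cases e
  · exact one_mul 1
  · exact sg_mul_self D a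

theorem conj_se (e : Bool) (a : D.W) : conj (se e a) = se e a := by
  cases e
  · exact map_one _
  · exact Lie.conj_sg D a

theorem se_one (e : Bool) : se e (1 : D.W) = 1 := by
  cases e
  · rfl
  · exact sg_one D

theorem se_tc' (e : Bool) {w₀ v u u' : D.W} (h : Tc D v (u * w₀) (u' * w₀)) : se e u' = se e u := by
  have h1 := se_tc e h
  rw [se_mul, se_mul] at h1
  exact mul_right_cancel₀ (left_ne_zero_of_mul_eq_one (se_self e w₀)) h1

theorem leviOK_of {lam xv : D.R → ℤ} {w₀ : D.W} {Q : ℤ} (hQ : Q ≠ 0) (h : (D.Wm w₀ * D.Mx) *ᵥ lam = Q • lam)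
    (h' : ∀ v ∈ Wl D lam, xv ᵥ* D.Wm v = xv) {x : ℂˣ} (hx : Fx D w₀ (cx D xv x)) : LeviOK D lam w₀ (cx D xv x) where
  stab a ha h1 := by
    have h2 := congrArg (· ⬝ᵥ lam) (wt_gw w₀ ha)
    simp only [← dotProduct_mulVec, h, dotProduct_smul, smul_dotProduct, h1, smul_eq_mul, mul_zero] at h2
    exact (mul_eq_zero.1 h2).resolve_left hQ
  fx := hx
  cen := ⟨x, xv, fun a ha h1 => by
    have h2 := h' (D.rf a) (show D.Wm (D.rf a) *ᵥ lam = lam by
      rw [D.Wm_rf ha, sub_mulVec, one_mulVec, vecMulVec_mulVec, h1, MulOpposite.op_zero, zero_smul, sub_zero])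
    rw [D.Wm_rf ha, vecMul_sub, vecMul_one, vecMul_vecMulVec, sub_eq_self] at h2
    have h3 := congrArg (· ⬝ᵥ D.cor a) h2
    have h4 : D.wt a ⬝ᵥ D.cor a = 2 := (D.pair_cor ha a).trans (Nodes.Coroot.cpr_self _ _ ha)
    simp only [smul_dotProduct, h4, zero_dotProduct, smul_eq_mul] at h3
    omega, rfl⟩

/-- the action of `W` on the labels -/
@[reducible] noncomputable def lact (D : Datum p ρ F G) : MulAction D.W (Lbl D) where
  smul v c := mon (D.Wm v⁻¹)ᵀ c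
  one_smul c := by
    show mon (D.Wm 1⁻¹)ᵀ c = c
    rw [inv_one, D.Wm_one, transpose_one, mon_one]
  mul_smul u v c := by
    show mon (D.Wm (u * v)⁻¹)ᵀ c = mon (D.Wm u⁻¹)ᵀ (mon (D.Wm v⁻¹)ᵀ c)
    rw [_root_.mul_inv_rev, D.Wm_mul, transpose_mul, mon_mul]

theorem rel_iff {v : D.W} {c c' : Lbl D} : Rel D v c c' ↔ mon (D.Wm v⁻¹)ᵀ c = c' :=
  ⟨fun h => eq_of_chr D fun z => by rw [chr_tr, h.symm z], fun h z => by
    rw [← h, chr_tr, mulVec_mulVec, ← D.Wm_mul, inv_mul_cancel, D.Wm_one, one_mulVec]⟩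

variable (f : Fr D) [Fintype ↥(GF F G)]

/-- an automorphism which is a scalar modulo the Weyl group -/
theorem RW_scalar (hA : Api f) {α : MulAut Y} {A : Matrix D.R D.R ℤ} (h : Au D α A) {v : D.W} {s : ℤ}
    (hv : D.Wm v * A = s • (1 : Matrix D.R D.R ℤ)) (hs : s ≠ 0) {w : D.W} {c : Lbl D} (hc : Fx D w c) (g : ↥(GF F G)) :
    RW f w c (h.aut g) = RW f w (c ^ s) g := by
  have h1 : A = s • D.Wm v⁻¹ := by
    rw [← mul_one (D.Wm v⁻¹), ← Matrix.mul_smul, ← hv, ← mul_assoc, ← D.Wm_mul, inv_mul_cancel, D.Wm_one, one_mul]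
  have h2 : D.Fw v⁻¹ = v⁻¹ := by
    have h3 := h.comm_Mx
    rw [h1, Matrix.smul_mul, Matrix.mul_smul] at h3
    have h4 : tau D 1 v⁻¹ = v⁻¹ := tau_eq_iff.2 (by rw [D.Wm_one, one_mul]; exact smul_right_injective _ hs h3)
    simpa [tau] using h4
  have h3 := ((hA.aut α A h).2 (v * w * v⁻¹) w (mon Aᵀ c) c (by
    rw [h1, Matrix.smul_mul, Matrix.mul_smul, ← D.Wm_mul, ← D.Wm_mul, ← mul_assoc, ← mul_assoc, inv_mul_cancel, one_mul])
    (fun z => (chr_tr D A z c).symm) hc).2 g (h.aut g) rfl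
  rw [h3, RW_conj f (v := v⁻¹) (w' := w) (c' := c ^ s) (show w * D.Fw v⁻¹ = _ by rw [h2]; group) fun z => by
    rw [chr_tr, h1, smul_mulVec, chr_zsmul, map_zpow]]

namespace Blk

variable {w₀ : D.W} {α : Type} [Fintype α] [DecidableEq α] {xv : D.R → ℤ} (B : Blk D w₀ α xv)

/-- `U` is finite -/
@[reducible] noncomputable def ft : Fintype B.U := Fintype.ofFinite _

attribute [local instance] ft

/-- the types -/
def Φ (γ : Perm α × B.U) : D.W := B.j γ.1 * γ.2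

/-- the conjugating elements -/
def δ (β : Perm α × B.U) : D.W := B.j β.1 * B.j' β.1 * β.2

/-- the twisted conjugation -/
noncomputable def ac (β γ : Perm α × B.U) : Perm α × B.U :=
  (β.1 * γ.1 * β.1⁻¹, ⟨β.2 * γ.2 * (tau D w₀ β.2)⁻¹, mul_mem (mul_mem β.2.2 γ.2.2) (inv_mem (B.tau_U _ β.2.2))⟩)

theorem fix3 (g g' : Perm α) {u : D.W} (hu : u ∈ B.U) : xv ᵥ* D.Wm (B.j g * B.j' g' * u) = xv := by
  rw [D.Wm_mul, D.Wm_mul, ← vecMul_vecMul, ← vecMul_vecMul, B.fix, B.fix', B.fixU u hu]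

theorem mul3 (g g' h h' : Perm α) {u u' : D.W} (hu : u ∈ B.U) :
    B.j g * B.j' g' * u * (B.j h * B.j' h' * u') = B.j (g * h) * B.j' (g' * h') * (u * u') := by
  rw [map_mul, map_mul]
  calc _ = B.j g * B.j' g' * (u * B.j h) * B.j' h' * u' := by group
    _ = B.j g * (B.j' g' * B.j h) * (u * B.j' h') * u' := by rw [← (B.commU h u hu).eq]; group
    _ = _ := by rw [← (B.comm h g').eq, ← (B.commU' h' u hu).eq]; group

theorem uniq3 {g g' h h' : Perm α} {u u' : D.W} (hu : u ∈ B.U) (hu' : u' ∈ B.U)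
    (e : B.j g * B.j' g' * u = B.j h * B.j' h' * u') : g = h ∧ B.j' g' = B.j' h' ∧ u = u' := by
  have h1 := B.mul3 h⁻¹ h'⁻¹ h h' (u' := u') (inv_mem hu')
  rw [inv_mul_cancel, inv_mul_cancel, inv_mul_cancel, map_one, map_one, one_mul, one_mul, ← e,
    B.mul3 _ _ _ _ (inv_mem hu')] at h1
  obtain ⟨h2, h3⟩ := B.uniq _ _ _ (mul_mem (inv_mem hu') hu) h1
  rw [h2, h3, map_one, one_mul, one_mul] at h1
  rw [map_mul, map_inv] at h3
  exact ⟨(inv_mul_eq_one.1 h2).symm, (inv_mul_eq_one.1 h3).symm, (inv_mul_eq_one.1 h1).symm⟩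

theorem Φ_eq (γ : Perm α × B.U) : B.Φ γ = B.j γ.1 * B.j' 1 * γ.2 := by rw [map_one, mul_one, Φ]

theorem Φ_inj : Function.Injective B.Φ := fun γ γ' e => by
  rw [Φ_eq, Φ_eq] at e
  obtain ⟨h1, -, h2⟩ := B.uniq3 γ.2.2 γ'.2.2 e
  exact Prod.ext h1 (Subtype.ext h2)

theorem δ_inj : Function.Injective B.δ := fun γ γ' e => by
  obtain ⟨h1, -, h2⟩ := B.uniq3 γ.2.2 γ'.2.2 e
  exact Prod.ext h1 (Subtype.ext h2)

theorem tau_δ (β : Perm α × B.U) : tau D w₀ (B.δ β) = B.j β.1 * B.j' β.1 * tau D w₀ β.2 := by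
  rw [δ, tau_mul, tau_of_mem (B.tau_d _)]

theorem tc_ac (β γ : Perm α × B.U) : Tc D (B.δ β) (B.Φ γ * w₀) (B.Φ (B.ac β γ) * w₀) := by
  rw [tc_iff', tau_δ, Φ_eq, Φ_eq, δ, B.mul3 _ _ _ _ (B.ac β γ).2.2, B.mul3 _ _ _ _ β.2.2]
  simp [ac]

variable {x : ℂˣ}

theorem rel3 (g g' : Perm α) {u : D.W} (hu : u ∈ B.U) (x : ℂˣ) :
    Rel D (B.j g * B.j' g' * u) (cx D xv x) (cx D xv x) := rel_cx (B.fix3 g g' hu) x

theorem of_rel (hx : N3 x) {v : D.W} (h : Rel D v (cx D xv x) (cx D xv x)) :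
    ∃ g g', ∃ u ∈ B.U, v = B.j g * B.j' g' * u := B.stab v fun i => hx.dvd (by
  have h1 := h (Pi.single i 1)
  rw [chr_cx, chr_cx, dotProduct_mulVec, dotProduct_single, dotProduct_single, mul_one, mul_one] at h1
  rw [Pi.sub_apply, _root_.zpow_sub, h1, mul_inv_cancel])

theorem exists_δ (hx : N3 x) {v : D.W} (h : Rel D v (cx D xv x) (cx D xv x)) {γ γ' : Perm α × B.U}
    (ht : Tc D v (B.Φ γ * w₀) (B.Φ γ' * w₀)) : ∃ β, v = B.δ β := by
  obtain ⟨g, g', u, hu, rfl⟩ := B.of_rel hx h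
  have h1 : B.j g * B.j' g' * u = B.j g * B.j' g * B.j' (g⁻¹ * g') * u := by
    rw [mul_assoc (B.j g) (B.j' g), ← map_mul, mul_inv_cancel_left]
  rcases B.tau_j (g⁻¹ * g') with h2 | h2
  · exact ⟨(g, ⟨u, hu⟩), by rw [h1, h2, mul_one]; rfl⟩
  · have h3 : tau D w₀ (B.j g * B.j' g' * u) = B.j g' * B.j' g * tau D w₀ u := by
      rw [h1, tau_mul, tau_mul, tau_of_mem (B.tau_d _), h2, mul_assoc (B.j g), ← (B.comm _ g).eq, ← mul_assoc, ← map_mul,
        mul_inv_cancel_left]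
    rw [tc_iff', h3, Φ_eq, Φ_eq, B.mul3 _ _ _ _ γ'.2.2, B.mul3 _ _ _ _ hu, one_mul, mul_one] at ht
    obtain ⟨-, h4, -⟩ := B.uniq3 (mul_mem γ'.2.2 (B.tau_U u hu)) (mul_mem hu γ.2.2) ht
    exact ⟨(g, ⟨u, hu⟩), by rw [← h4]; rfl⟩

theorem fx_Φ (hF : Fx D w₀ (cx D xv x)) (γ : Perm α × B.U) : Fx D (B.Φ γ * w₀) (cx D xv x) :=
  hF.mul (B.Φ_eq γ ▸ B.rel3 _ _ γ.2.2 x)

theorem ip_Φ (hx : N3 x) (hF : Fx D w₀ (cx D xv x)) (γ γ' : Perm α × B.U) :
    classInner (RW f (B.Φ γ * w₀) (cx D xv x)) (RW f (B.Φ γ' * w₀) (cx D xv x)) =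
      Nat.card {β // B.ac β γ' = γ} := by
  rw [← classInner_conj_symm, RW_ip f (B.fx_Φ hF _) (B.fx_Φ hF _), map_natCast]
  refine congrArg _ (Nat.card_congr (Equiv.ofBijective (fun β : {β // B.ac β γ' = γ} =>
    (⟨B.δ β.1, by have := B.tc_ac β.1 γ'; rwa [β.2] at this, B.rel3 _ _ β.1.2.2 x⟩ :
      {v // Tc D v (B.Φ γ' * w₀) (B.Φ γ * w₀) ∧ Rel D v (cx D xv x) (cx D xv x)}))
    ⟨fun a b e => Subtype.ext (B.δ_inj (congrArg Subtype.val e)), fun v => ?_⟩)).symm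
  obtain ⟨β, hβ⟩ := B.exists_δ hx v.2.2 v.2.1
  refine ⟨⟨β, B.Φ_inj ?_⟩, Subtype.ext hβ.symm⟩
  have h1 := tc_iff'.1 (B.tc_ac β γ')
  rw [← hβ, ← tc_iff'.1 v.2.1] at h1
  exact mul_right_cancel h1

/-- the coefficients -/
noncomputable def co (μ : Perm α → ℂ) (e : Bool) (γ : Perm α × B.U) : ℂ := μ γ.1 * se e (B.Φ γ)

/-- the characters of the block -/
noncomputable def X (x : ℂˣ) (μ : Perm α → ℂ) (e : Bool) : ↥(GF F G) → ℂ :=
  (Nat.card (Perm α × B.U) : ℂ)⁻¹ • ∑ γ, B.co μ e γ • RW f (B.Φ γ * w₀) (cx D xv x)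

variable {f} {μ μ' : Perm α → ℂ} {e e' : Bool}

theorem ip_X_Φ (hx : N3 x) (hF : Fx D w₀ (cx D xv x)) (hμ : IsClassFunction (Perm α) μ) (γ : Perm α × B.U) :
    classInner (B.X f x μ e) (RW f (B.Φ γ * w₀) (cx D xv x)) = B.co μ e γ := by
  have h1 := sum_fib (fun β => B.ac β γ) (B.co μ e)
  have h2 : ∀ β, B.co μ e (B.ac β γ) = B.co μ e γ := fun β => by
    rw [co, co, se_tc' e (B.tc_ac β γ)]
    exact congrArg (· * _) (hμ γ.1 β.1)
  simp only [h2, Finset.sum_const, Finset.card_univ, nsmul_eq_mul, ← Nat.card_eq_fintype_card] at h1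
  simp only [X, classInner_smul_left, classInner_sum_left, B.ip_Φ f hx hF, mul_comm (B.co μ e _)]
  rw [← h1, inv_mul_cancel_left₀ (Nat.cast_ne_zero.2 Nat.card_pos.ne')]

theorem Φ_one : B.Φ 1 = 1 := by simp [Φ]

theorem ip_X_one (hx : N3 x) (hF : Fx D w₀ (cx D xv x)) (hμ : IsClassFunction (Perm α) μ) :
    classInner (B.X f x μ e) (RW f w₀ (cx D xv x)) = μ 1 := by
  have h := B.ip_X_Φ (f := f) (e := e) hx hF hμ 1
  rwa [co, Φ_one, one_mul, se_one, mul_one] at h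

theorem ip_X (hx : N3 x) (hF : Fx D w₀ (cx D xv x)) (hμ : IsClassFunction (Perm α) μ) :
    classInner (B.X f x μ e) (B.X f x μ' e') =
      (Nat.card (Perm α × B.U) : ℂ)⁻¹ * ∑ γ, B.co μ e γ * conj (B.co μ' e' γ) := by
  conv_lhs => rw [show B.X f x μ' e' = _ • _ from rfl]
  simp only [classInner_smul_right, classInner_sum_right, B.ip_X_Φ hx hF hμ, map_inv₀, map_natCast,
    mul_comm (B.co μ e _)]

theorem ip_X_same (hx : N3 x) (hF : Fx D w₀ (cx D xv x)) (hμ : IsClassFunction (Perm α) μ) :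
    classInner (B.X f x μ e) (B.X f x μ' e) = classInner μ μ' := by
  have h1 : ∀ γ, B.co μ e γ * conj (B.co μ' e γ) = μ γ.1 * conj (μ' γ.1) := fun γ => by
    rw [co, co, map_mul, conj_se, mul_mul_mul_comm, se_self, mul_one]
  rw [B.ip_X hx hF hμ, classInner_def, Fintype.sum_prod_type]
  simp only [h1, Finset.sum_const, Finset.card_univ, nsmul_eq_mul, ← Nat.card_eq_fintype_card, ← Finset.mul_sum]
  rw [Nat.card_prod, Nat.cast_mul, mul_inv, mul_assoc, inv_mul_cancel_left₀ (Nat.cast_ne_zero.2 Nat.card_pos.ne')]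

theorem ip_X_sign (hx : N3 x) (hF : Fx D w₀ (cx D xv x)) (hμ : IsClassFunction (Perm α) μ) {u : D.W} (hu : u ∈ B.U)
    (hs : (D.Wm u).det = -1) : classInner (B.X f x μ false) (B.X f x μ' true) = 0 := by
  rw [B.ip_X hx hF hμ, Fintype.sum_prod_type, Finset.sum_eq_zero, mul_zero]
  intro g _
  have h1 := Equiv.sum_comp (Equiv.mulRight (⟨u, hu⟩ : B.U)) fun t => B.co μ false (g, t) * conj (B.co μ' true (g, t))
  have h2 : ∀ t : B.U, B.co μ false (g, t * ⟨u, hu⟩) * conj (B.co μ' true (g, t * ⟨u, hu⟩)) =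
      -(B.co μ false (g, t) * conj (B.co μ' true (g, t))) := fun t => by
    have h3 : se true (B.Φ (g, t * ⟨u, hu⟩)) = -se true (B.Φ (g, t)) := by
      rw [show B.Φ (g, t * ⟨u, hu⟩) = B.Φ (g, t) * u from (mul_assoc _ _ _).symm, se_mul,
        show se true u = -1 by simp [se, sg, hs], mul_neg_one]
    simp only [co, h3, show ∀ w : D.W, se false w = 1 from fun _ => rfl, mul_neg, map_neg]
  simp only [Equiv.coe_mulRight, h2, Finset.sum_neg_distrib] at h1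
  exact self_eq_neg.1 h1.symm

/-- the support -/
theorem ip_X_zero {χ : ↥(GF F G) → ℂ} (h : ∀ w, Fx D w (cx D xv x) → classInner χ (RW f w (cx D xv x)) = 0)
    (hF : Fx D w₀ (cx D xv x)) : classInner χ (B.X f x μ e) = 0 := by
  simp only [X, classInner_smul_right, classInner_sum_right, h _ (B.fx_Φ hF _), mul_zero, Finset.sum_const_zero]

theorem rel_of_X {w : D.W} {c : Lbl D} (h : classInner (B.X f x μ e) (RW f w c) ≠ 0) :
    Fx D w c ∧ ∃ v, Rel D v (cx D xv x) c := by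
  simp only [X, classInner_smul_left, classInner_sum_left] at h
  obtain ⟨γ, -, h1⟩ := Finset.exists_ne_zero_of_sum_ne_zero (right_ne_zero_of_mul h)
  obtain ⟨-, h2, v, -, h3⟩ := rel_of_ne (right_ne_zero_of_mul h1)
  exact ⟨h2, v, h3⟩

theorem X_scalar (hA : Api f) {β : MulAut Y} {A : Matrix D.R D.R ℤ} (h : Au D β A) {v : D.W} {s : ℤ}
    (hv : D.Wm v * A = s • (1 : Matrix D.R D.R ℤ)) (hs : s ≠ 0) (hF : Fx D w₀ (cx D xv x)) (g : ↥(GF F G)) :
    B.X f x μ e (h.aut g) = B.X f (x ^ s) μ e g := by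
  simp only [X, Pi.smul_apply, Finset.sum_apply, RW_scalar f hA h hv hs (B.fx_Φ hF _), cx_zpow]

/-- the product of the three factors -/
def Ψ : Perm α × Perm α × B.U →* D.W :=
  MonoidHom.mk' (fun t => B.j t.1 * B.j' t.2.1 * t.2.2) fun a _ => (B.mul3 _ _ _ _ a.2.2.2).symm

theorem X_gen (hA : Api f) (hF : Fx D w₀ (cx D xv x)) (hμ : IsIrrCharacter (Perm α) μ) :
    IsGeneralizedCharacter ↥(GF F G) (B.X f x μ e) := by
  classical
  let a : D.W → ↥(GF F G) → ℂ := fun u g => se e u * RW f (u * w₀) (cx D xv x) g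
  have ha : ∀ {v u u'}, Tc D v (u * w₀) (u' * w₀) → Rel D v (cx D xv x) (cx D xv x) → a u' = a u := fun h1 h2 => by
    simp only [a, se_tc' e h1, RW_conj f h1 h2]
  have hU : (Nat.card B.U : ℂ) ≠ 0 := Nat.cast_ne_zero.2 Nat.card_pos.ne'
  have h := young_gen (fun g z => (Nat.card B.U : ℂ)⁻¹ * ∑ u : B.U, a (B.Φ (g, u)) z) (fun g h => by
    have h1 : ∀ u : B.U, a (B.Φ (h * g * h⁻¹, u)) = a (B.Φ (g, u)) := fun u => by
      rw [← ha (B.tc_ac (h, 1) (g, u)) (B.rel3 _ _ B.U.one_mem x)]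
      simp [ac, tau_one]
    simp only [h1]) (fun c => by
    obtain ⟨lam, Q, hQ, h1, h2⟩ := B.levi c
    have h3 := leviOK_of hQ h1 (fun v hv => by
      obtain ⟨g, -, g', -, u, hu, rfl⟩ := (h2 v).1 hv
      exact B.fix3 g g' hu) hF
    have h4 : IsGeneralizedCharacter ↥(GF F G) (avg f (Wl D lam) (se e) w₀ (cx D xv x)) := by
      cases e
      · exact hA.levi _ _ _ h3
      · exact hA.leviSt _ _ _ h3
    convert h4 using 1
    funext z
    have h5 := avg_hom (B.Ψ.comp ((Yg c).subtype.prodMap ((Yg c).subtype.prodMap (MonoidHom.id B.U)))) (H := Wl D lam)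
      (Subgroup.ext fun v => Iff.trans ⟨fun ⟨t, ht⟩ => ⟨t.1, t.1.2, t.2.1, t.2.1.2, t.2.2, t.2.2.2, ht.symm⟩,
        fun ⟨g, hg, g', hg', u, hu, ht⟩ => ⟨(⟨g, hg⟩, ⟨g', hg'⟩, ⟨u, hu⟩), ht.symm⟩⟩ (h2 v).symm) fun u => a u z
    refine Eq.trans ?_ h5.symm
    have h6 : ∀ g' : Yg c, ∑ g : Yg c, ∑ u : B.U, a (B.j g * B.j' g' * u) z = ∑ g : Yg c, ∑ u : B.U, a (B.Φ (g, u)) z := by
      intro g'
      rcases B.tau_j g' with h7 | h7
      · simp only [h7, mul_one, Φ]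
      · rw [← Equiv.sum_comp (Equiv.mulRight g') fun g : Yg c => ∑ u : B.U, a (B.Φ (g, u)) z]
        refine Finset.sum_congr rfl fun g _ => Finset.sum_congr rfl fun u _ => congrFun (ha (v := B.j' g') ?_ ?_) z
        · rw [tc_iff', h7, Φ_eq]
          have h8 := B.mul3 g g' g' 1 (u' := 1) u.2
          have h9 := B.mul3 1 g' (g * g') 1 (u' := u) B.U.one_mem
          simp only [map_one, mul_one, one_mul] at h8 h9 ⊢
          rw [h8]
          exact h9.symm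
        · simpa using B.rel3 1 g' B.U.one_mem x
    have hY : (Nat.card (Yg c) : ℂ) ≠ 0 := Nat.cast_ne_zero.2 Nat.card_pos.ne'
    rw [Fintype.sum_prod_type, Finset.sum_congr rfl fun g _ => Fintype.sum_prod_type _, Finset.sum_comm]
    refine Eq.trans ?_ (congrArg _ (Finset.sum_congr rfl fun g' _ => (h6 g').symm))
    rw [Finset.sum_const, Finset.card_univ, nsmul_eq_mul,
      ← Nat.card_eq_fintype_card (α := Yg c), finsum_eq_sum_of_fintype, ← Finset.mul_sum, Nat.card_prod, Nat.card_prod]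
    push_cast
    field_simp) hμ
  convert h using 1
  funext z
  rw [X, Pi.smul_apply, Finset.sum_apply, Fintype.sum_prod_type, Nat.card_prod, Nat.cast_mul, mul_inv, smul_eq_mul,
    mul_assoc, Finset.mul_sum]
  refine congrArg _ (Finset.sum_congr rfl fun g _ => ?_)
  rw [mul_left_comm, Finset.mul_sum _ _ (μ g)]
  exact congrArg _ (Finset.sum_congr rfl fun u _ => mul_assoc _ _ _)

/-- the diagonal embedding -/
def dg : Perm α →* ↥(CW D w₀) :=
  MonoidHom.mk' (fun g => ⟨B.j g * B.j' g, B.tau_d g⟩) fun a b => Subtype.ext (by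
    simpa using (B.mul3 a a b b (u' := 1) B.U.one_mem).symm)

theorem coe_dg (g : Perm α) : (B.dg g : D.W) = B.j g * B.j' g := rfl

theorem dg_inj : Function.Injective B.dg := (injective_iff_map_eq_one _).2 fun g hg =>
  (B.uniq g g 1 B.U.one_mem ((mul_one _).trans (congrArg Subtype.val hg))).1

theorem not_dvd_index (h : (Nat.card (CW D w₀)).factorization 3 ≤ (Nat.card (Perm α)).factorization 3) :
    ¬ 3 ∣ B.dg.range.index := fun h3 => by
  have h1 := B.dg.range.card_mul_index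
  rw [← Nat.card_congr (B.dg.ofInjective B.dg_inj).toEquiv] at h1
  rw [← h1, Nat.factorization_mul Nat.card_pos.ne' Subgroup.index_ne_zero_of_finite, Finsupp.add_apply] at h
  have := (Nat.prime_three.dvd_iff_one_le_factorization Subgroup.index_ne_zero_of_finite).1 h3
  omega

theorem mS_X (hx : N3 x) (hF : Fx D w₀ (cx D xv x)) (hμ : IsClassFunction (Perm α) μ) (h3 : ¬ 3 ∣ B.dg.range.index) :
    ∃ m : ℕ, ¬ 3 ∣ m ∧ ∀ ε : ℂ, Lie.mS f w₀ (ε • B.X f x μ e) = ε * μ 1 * m := by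
  let _ := lact D
  have h1 : ∀ c, c ∈ MulAction.orbit (CW D w₀) (cx D xv x) ↔ ∃ v ∈ CW D w₀, Rel D v (cx D xv x) c := fun c =>
    ⟨fun ⟨v, hv⟩ => ⟨v, v.2, rel_iff.2 hv⟩, fun ⟨v, hv, h⟩ => ⟨⟨v, hv⟩, rel_iff.1 h⟩⟩
  refine ⟨(MulAction.stabilizer (CW D w₀) (cx D xv x)).index, fun h => h3 (h.trans (Subgroup.index_dvd_of_le ?_)),
    fun ε => ?_⟩
  · rintro _ ⟨g, rfl⟩
    exact rel_iff.1 (by simpa [coe_dg] using B.rel3 g g B.U.one_mem x)
  have h2 : (MulAction.orbit (CW D w₀) (cx D xv x)).Finite := Set.finite_range _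
  rw [Lie.mS, MulAction.index_stabilizer, Set.ncard_eq_toFinset_card _ h2, mul_comm, ← nsmul_eq_mul, ← Finset.sum_const,
    finsum_eq_sum_of_support_subset (s := h2.toFinset)]
  · refine Finset.sum_congr rfl fun c hc => ?_
    obtain ⟨v, hv, h4⟩ := (h1 c).1 (h2.mem_toFinset.1 hc)
    rw [finsum_eq_single _ (is3_of_rel h4 (is3_cx xv hx)) fun _ h => absurd rfl h, classInner_smul_left,
      ← RW_conj f hv h4, B.ip_X_one hx hF hμ]
  · intro c hc
    have h4 : classInner (B.X f x μ e) (RW f w₀ c) ≠ 0 := fun h => hc (by simp [classInner_smul_left, h])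
    obtain ⟨h5, v, h6⟩ := B.rel_of_X h4
    exact h2.mem_toFinset.2 ((h1 c).2 (B.fus x v c hx.1 hx.2 h5 h6))

/-- the members of the block -/
theorem exists_mem (hA : Api f) (hC : Mc f w₀) {M : Ideal AlgInt} (hM : IsPModular 3 M) (hx : N3 x)
    (hF : Fx D w₀ (cx D xv x)) (h3 : ¬ 3 ∣ B.dg.range.index) (μ : IrrCharacter (Perm α))
    (hμ : ¬ 3 ∣ charDegree (μ : Perm α → ℂ)) (e : Bool) : ∃ (χ : IrrCharacter ↥(GF F G)) (ε : ℂ), (ε = 1 ∨ ε = -1) ∧
      Mem M χ ∧ χ.1 = ε • B.X f x μ e := by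
  have h0 := isIrr_isClassFunction μ.2
  obtain ⟨χ, ε, h1, h2⟩ : ∃ (χ : IrrCharacter ↥(GF F G)) (ε : ℤ), (ε = 1 ∨ ε = -1) ∧ χ.1 = (ε : ℂ) • B.X f x μ e := by
    rcases isIrr_of_generalized (B.X_gen (e := e) hA hF μ.2)
      ((B.ip_X_same hx hF h0).trans (classInner_irr_self μ.2)) with h | h
    · exact ⟨⟨_, h⟩, 1, .inl rfl, by simp⟩
    · exact ⟨⟨_, h⟩, -1, .inr rfl, by simp⟩
  obtain ⟨m, h4, h5⟩ := B.mS_X (f := f) (e := e) hx hF h0 h3
  refine ⟨χ, ε, by rcases h1 with rfl | rfl <;> simp, (hC.can M hM χ (fun c hc => ?_)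
    (ε * charDegree (μ : Perm α → ℂ) * m) ?_).2 fun h => ?_, h2⟩
  · rw [h2, classInner_smul_left] at hc
    obtain ⟨-, v, h6⟩ := B.rel_of_X (right_ne_zero_of_mul hc)
    exact is3_of_rel h6 (is3_cx xv hx)
  · rw [h2, h5, ← deg_cast (isIrr_isCharacter μ.2)]
    push_cast
    rfl
  · rcases Int.prime_three.dvd_or_dvd h with h | h
    · rcases Int.prime_three.dvd_or_dvd h with h | h
      · rcases h1 with rfl | rfl <;> omega
      · exact hμ (by exact_mod_cast h)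
    · exact h4 (by exact_mod_cast h)

end Blk

end Cfsg.Agent.KZ.Cl
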