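import Cfsg.Agent.KZ.Lie.Iface
import Cfsg.Agent.KZ.Sym.Main
import Cfsg.Agent.KZ.Dat.Spm

/-!
# KZ, the B-like classical groups: the hypotheses (helper14)

* `Blk D w₀ α xv` : a block of type `A` for the labels `cx xv x = x ^ xv`;
* `BLike D Adm w₀ k a` : the combinatorial hypotheses for `B`, `C`, `D`, and `A` with the other sign;
* `RowAt S` : the three rows for one simple group, `row_of`.
-/

set_option autoImplicit false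
set_option linter.unusedSectionVars false

namespace Cfsg.Agent.KZ.Cl

open Cfsg Cfsg.Agent.DL Cfsg.Agent.DL.PP Cfsg.Agent.KZ.Lie Cfsg.Agent.KZ.Sym Cfsg.Agent.KZ.Dat Matrix Equiv

/-- the three rows for one simple group -/
structure RowAt (S : Type) [Group S] : Prop where
  up : ∀ M, IsPModular 3 M → ∀ (A : Type) [Group A] [Finite A] (N : Subgroup A), AS A N → Nonempty (↥N ≃* S) →
    ∀ P : Sylow 3 A, nab P = 9 → k0 M A ≤ 9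
  lo : ∀ M, IsPModular 3 M → ∀ (A : Type) [Group A] [Finite A] (N : Subgroup A), AS A N → Nonempty (↥N ≃* S) →
    (¬ 3 ∣ N.index ∨ N.index = 3) → ∀ P : Sylow 3 A, 27 ≤ nab P → 10 ≤ k0 M A
  one : ∀ M, IsPModular 3 M → One M S

theorem row_of (hT : ToolOne) {K : Fam} (h : ∀ (S : Type) [Group S] [Finite S], IsSimpleGroup S → ¬ IsMulCommutative S →
    3 ∣ Nat.card S → K S → RowAt S) : Row K :=
  Row.of_one hT (fun M hM A _ _ N h1 h2 => (h N h1.simple h1.nonab h1.three h2).up M hM A N h1 ⟨MulEquiv.refl _⟩)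
    (fun M hM A _ _ N h1 h2 => (h N h1.simple h1.nonab h1.three h2).lo M hM A N h1 ⟨MulEquiv.refl _⟩)
    fun M hM S _ _ h1 h2 h3 h4 => (h S h1 h2 h3 h4).one M hM

variable {p : ℕ} [Fact p.Prime] {k : Type} [Field k] [CharP k p] {Y : Type} [Group Y] {N : Type} [Fintype N]
  [DecidableEq N] {ρ : Y →* GL N k} {F : MulAut Y} {G : Subgroup Y} [IsAlgClosed k] (D : Datum p ρ F G)

/-- the automorphism of `W` induced by `w₀ F` -/
noncomputable def tau (w₀ v : D.W) : D.W := w₀ * D.Fw v * w₀⁻¹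

/-- the label `x ^ xv` -/
noncomputable def cx (xv : D.R → ℤ) (x : ℂˣ) : Lbl D := fun i => x ^ xv i

/-- the label with the coordinates `y` -/
noncomputable def lab {n : ℕ} (L : Matrix (Fin n) D.R ℤ) (y : Fin n → ℂˣ) : Lbl D := fun i => chr (fun a => L a i) y

/-- the indicator of the first `r` coordinates -/
def ind (n r : ℕ) : Fin n → ℤ := fun i => if (i : ℕ) < r then 1 else 0

/-- A block of type `A`: the stabiliser of the labels `x ^ xv` in `W` is `j(S_α) j'(S_α) U`.  Types `B`, `C`, `D`: `j' = 1`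
and `w₀ F` centralises `j`.  Type `A`: `w₀ F` interchanges `j` and `j'`. -/
structure Blk (w₀ : D.W) (α : Type) [Fintype α] [DecidableEq α] (xv : D.R → ℤ) where
  j : Perm α →* D.W
  j' : Perm α →* D.W
  U : Subgroup D.W
  comm : ∀ g g', Commute (j g) (j' g')
  commU : ∀ g, ∀ u ∈ U, Commute (j g) u
  commU' : ∀ g, ∀ u ∈ U, Commute (j' g) u
  fix : ∀ g, xv ᵥ* D.Wm (j g) = xv
  fix' : ∀ g, xv ᵥ* D.Wm (j' g) = xv
  fixU : ∀ u ∈ U, xv ᵥ* D.Wm u = xv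
  stab : ∀ v, (∀ i, (3 : ℤ) ∣ (xv ᵥ* D.Wm v - xv) i) → ∃ g g', ∃ u ∈ U, v = j g * j' g' * u
  uniq : ∀ g g', ∀ u ∈ U, j g * j' g' * u = 1 → g = 1 ∧ j' g' = 1
  tau_d : ∀ g, j g * j' g ∈ CW D w₀
  tau_j : ∀ g, j' g = 1 ∨ tau D w₀ (j' g) = j g
  tau_U : ∀ u ∈ U, tau D w₀ u ∈ U
  levi : ∀ f : α → Fin (Fintype.card α), ∃ (lam : D.R → ℤ) (Q : ℤ), Q ≠ 0 ∧ (D.Wm w₀ * D.Mx) *ᵥ lam = Q • lam ∧
    ∀ v, v ∈ Wl D lam ↔ ∃ g ∈ Yg f, ∃ g' ∈ Yg f, ∃ u ∈ U, v = j g * j' g' * u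
  fus : ∀ (x : ℂˣ) (v : D.W) (c' : Lbl D), x ≠ 1 → (∃ i : ℕ, x ^ 3 ^ i = 1) → Fx D w₀ c' → Rel D v (cx D xv x) c' →
    ∃ v₀ ∈ CW D w₀, Rel D v₀ (cx D xv x) c'
  /-- the label is not conjugate to its inverse, or a good element inverts it -/
  neg : (∀ v, ¬ ∀ i, (3 : ℤ) ∣ (xv ᵥ* D.Wm v + xv) i) ∨ ∃ v ∈ CW D w₀, xv ᵥ* D.Wm v = -xv ∧ (∀ u ∈ U, v * u * v⁻¹ ∈ U) ∧
    ∀ g, v * j g = j g * v ∨ v * j g = j' g * v

/-- The B-like groups.  The labels of `3`-power order of the Sylow torus are `(μ_{3 ^ a}) ^ n`, the relative Weyl group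
acts faithfully by signed permutations. -/
structure BLike (Adm : Matrix D.R D.R ℤ → Prop) (w₀ : D.W) (n a : ℕ) where
  n_pos : 1 ≤ n
  a_pos : 1 ≤ a
  L : Matrix (Fin n) D.R ℤ
  Q : ℤ
  hQ : (3 : ℤ) ^ a ∣ Q - 1
  L_surj : ∀ z, ∃ v, L *ᵥ v = z
  L_Θ : L * (D.Wm w₀ * D.Mx) = Q • L
  lab_surj : ∀ c, Fx D w₀ c → Is3 D c → ∃ y, y ^ 3 ^ a = 1 ∧ c = lab D L y
  act : ∀ v ∈ CW D w₀, ∃ π t, L * D.Wm v = spm π t * L
  inj : ∀ v ∈ CW D w₀, L * D.Wm v = L → v = 1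
  bk : Blk D w₀ (Fin n) (ind n n ᵥ* L)
  b3 : n = 4 ∨ n = 5 → Blk D w₀ (Fin 3) (ind n 3 ᵥ* L)
  refl : ∀ h : n = 4, ∃ u ∈ (b3 (.inl h)).U, (D.Wm u).det = -1
  /-- an admissible matrix is a scalar modulo `W`, or it moves the labels `x ^ (1, .., 1)` to another class -/
  adm : ∀ A, Adm A → (∃ (v : D.W) (s : ℤ), ¬ 3 ∣ s ∧ D.Wm v * A = s • (1 : Matrix D.R D.R ℤ)) ∨
    ((n ≠ 1 ∧ n ≠ 4 ∧ n ≠ 5) ∧ (∃ s : ℤ, ¬ 3 ∣ s ∧ A * A = s • (1 : Matrix D.R D.R ℤ)) ∧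
      (∀ w, ∃ w', D.Wm w * A = A * D.Wm w') ∧
      ∀ (v : D.W) (s : ℤ), ¬ ∀ i, (3 : ℤ) ∣ ((ind n n ᵥ* L) ᵥ* (A * D.Wm v) - s • (ind n n ᵥ* L)) i)

variable {D}

theorem tau_eq_iff {w₀ v v' : D.W} : tau D w₀ v = v' ↔ D.Wm v' * (D.Wm w₀ * D.Mx) = D.Wm w₀ * D.Mx * D.Wm v := by
  obtain ⟨d, e, L⟩ := exists_lvl D
  have h1 : D.Mx.det ≠ 0 := fun h => by
    have h2 := congrArg det (L.pow 1)
    rw [D.Wm_one, one_mul, det_pow, h, zero_pow L.d_pos.ne', det_smul, det_one, mul_one] at h2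
    exact pow_ne_zero _ (pow_ne_zero _ (Nat.cast_ne_zero.2 (Fact.out : p.Prime).ne_zero)) h2.symm
  rw [mul_assoc, D.Mx_Wm, ← mul_assoc, ← mul_assoc, ← D.Wm_mul, ← D.Wm_mul, tau, mul_inv_eq_iff_eq_mul, eq_comm]
  refine ⟨fun h => by rw [h], fun h => D.Wm_injective ?_⟩
  have h2 := congrArg (· * D.Mx.adjugate) h
  simp only [mul_assoc, mul_adjugate, Matrix.mul_smul, mul_one] at h2
  exact smul_right_injective _ h1 h2

theorem mem_CW_iff {w₀ v : D.W} : v ∈ CW D w₀ ↔ D.Wm v * (D.Wm w₀ * D.Mx) = D.Wm w₀ * D.Mx * D.Wm v := by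
  rw [← tau_eq_iff, tau, mul_inv_eq_iff_eq_mul]
  rfl

end Cfsg.Agent.KZ.Cl
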