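import Cfsg.Agent.KZ.Cl.Mem
import Cfsg.Agent.Characters.Linear

/-!
# KZ, the B-like groups: the lists of members (helper14)

`BLike.p10`, `BLike.p4`, `BLike.four`.
-/

set_option autoImplicit false
set_option linter.unusedSectionVars false

namespace Cfsg.Agent.KZ.Cl

open Cfsg Cfsg.Agent.DL Cfsg.Agent.DL.PP Cfsg.Agent.KZ.Lie Cfsg.Agent.KZ.Sym Cfsg.Agent.Characters.Core Matrix Equiv
  Cfsg.Agent.KZ.Res Cfsg.Agent.KZ.Dat
open scoped ComplexConjugate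

/-- roots of unity which are distinct up to inversion -/
theorem exists_xs (b h : ℕ) (hh : 2 * h < 3 ^ b) : ∃ xs : Fin h → ℂˣ, (∀ i, N3 (xs i) ∧ xs i ^ 3 ^ b = 1) ∧
    ∀ i j, xs j = xs i ∨ xs j = (xs i)⁻¹ → i = j := by
  have h0 : 3 ^ b ≠ 0 := by positivity
  have h1 := Complex.isPrimitiveRoot_exp _ h0
  have h2 := h1.isUnit_unit h0
  set ζ := (h1.isUnit h0).unit
  have h3 : ∀ i, (ζ ^ i) ^ 3 ^ b = 1 := fun i => by rw [← pow_mul, mul_comm, pow_mul, h2.pow_eq_one, one_pow]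
  refine ⟨fun i => ζ ^ (i + 1 : ℕ), fun i => ⟨⟨h2.pow_ne_one_of_pos_of_lt (by omega) (by omega), b, h3 _⟩, h3 _⟩, ?_⟩
  rintro i j (e | e)
  · exact Fin.ext (by have := h2.pow_inj (by omega) (by omega) e; omega)
  · rw [eq_inv_iff_mul_eq_one, ← pow_add] at e
    exact absurd e (h2.pow_ne_one_of_pos_of_lt (by omega) (by omega))

theorem pow_one_of_dvd {H : Type} [Monoid H] {x : H} {m n : ℕ} (h : x ^ m = 1) (h' : m ∣ n) : x ^ n = 1 := by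
  obtain ⟨c, rfl⟩ := h'
  rw [pow_mul, h, one_pow]

theorem exists_two (α : Type) [Fintype α] [DecidableEq α] [Nontrivial α] :
    ∃ μ : Fin 2 → IrrCharacter (Perm α), Function.Injective μ ∧ ∀ i, ¬ 3 ∣ charDegree (μ i : Perm α → ℂ) := by
  let l : Perm α →* ℂˣ := (Units.map (Int.castRingHom ℂ).toMonoidHom).comp Perm.sign
  refine ⟨![Tool.triv _, ⟨_, Characters.Linear.isIrrCharacter_hom l⟩], ?_, fun i => ?_⟩
  · obtain ⟨a, b, hab⟩ := exists_pair_ne α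
    have h : Tool.triv (Perm α) ≠ ⟨_, Characters.Linear.isIrrCharacter_hom l⟩ := fun e => by
      have := congrFun (congrArg Subtype.val e) (swap a b)
      simp only [Tool.triv, l, MonoidHom.comp_apply, Perm.sign_swap hab] at this
      norm_num at this
    intro i j e
    fin_cases i <;> fin_cases j <;> first | rfl | exact absurd e h | exact absurd e.symm h
  · rw [Blocks.Basic.charDegree_of_eq (n := 1) (by fin_cases i <;> simp [Tool.triv])]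
    decide

variable {p : ℕ} [Fact p.Prime] {k : Type} [Field k] [CharP k p] {Y : Type} [Group Y] {N : Type} [Fintype N]
  [DecidableEq N] {ρ : Y →* GL N k} {F : MulAut Y} {G : Subgroup Y} [IsAlgClosed k] {D : Datum p ρ F G}

theorem chr_lab {n : ℕ} (L : Matrix (Fin n) D.R ℤ) (v : D.R → ℤ) (y : Fin n → ℂˣ) :
    chr v (lab D L y) = chr (L *ᵥ v) y := by
  simp only [lab, chr_apply, ← Finset.prod_zpow, ← _root_.zpow_mul, mulVec, dotProduct]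
  rw [Finset.prod_comm]
  exact Finset.prod_congr rfl fun i _ => (DL.zpow_sum' _ _ _).symm

theorem lab_mul {n : ℕ} (L : Matrix (Fin n) D.R ℤ) (y y' : Fin n → ℂˣ) : lab D L (y * y') = lab D L y * lab D L y' :=
  funext fun _ => map_mul _ _ _

theorem lab_pow {n : ℕ} (L : Matrix (Fin n) D.R ℤ) (y : Fin n → ℂˣ) (m : ℕ) : lab D L (y ^ m) = lab D L y ^ m :=
  funext fun _ => map_pow _ _ _

theorem lab_one' {n : ℕ} (L : Matrix (Fin n) D.R ℤ) : lab D L 1 = 1 := funext fun _ => map_one _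

theorem cx_lab {n : ℕ} (L : Matrix (Fin n) D.R ℤ) (z : Fin n → ℤ) (x : ℂˣ) :
    cx D (z ᵥ* L) x = lab D L fun i => x ^ z i := eq_of_chr D fun v => by
  rw [chr_cx, chr_lab, ← dotProduct_mulVec, dotProduct_comm]
  exact (chr_coch _ z x).symm

theorem is3_lab {n : ℕ} (L : Matrix (Fin n) D.R ℤ) {y : Fin n → ℂˣ} {a : ℕ} (h : y ^ 3 ^ a = 1) : Is3 D (lab D L y) :=
  ⟨a, by rw [← lab_pow, h, lab_one']⟩

namespace BLike

variable {Adm : Matrix D.R D.R ℤ → Prop} {w₀ : D.W} {n a : ℕ} (B : BLike D Adm w₀ n a)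

theorem cancel {X X' : Matrix (Fin n) (Fin n) ℤ} (h : X * B.L = X' * B.L) : X = X' := by
  refine Matrix.ext_of_mulVec_single fun i => ?_
  obtain ⟨v, hv⟩ := B.L_surj (Pi.single i 1)
  rw [← hv, mulVec_mulVec, mulVec_mulVec, h]

theorem lab_inj : Function.Injective (lab D B.L) := fun y y' h => funext fun i => by
  obtain ⟨v, hv⟩ := B.L_surj (Pi.single i 1)
  rw [← chr_single i y, ← chr_single i y', ← hv, ← chr_lab, ← chr_lab, h]

theorem fx_lab {y : Fin n → ℂˣ} (h : y ^ 3 ^ a = 1) : Fx D w₀ (lab D B.L y) := fun v => by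
  obtain ⟨c, hc⟩ := B.hQ
  rw [chr_lab, chr_lab, mulVec_mulVec, B.L_Θ, smul_mulVec, chr_zsmul, sub_eq_iff_eq_add.1 hc, _root_.zpow_add, zpow_one,
    _root_.zpow_mul, ← Nat.cast_ofNat, ← Nat.cast_pow, zpow_natCast, ← map_pow, h, map_one, _root_.one_zpow, one_mul]

theorem pow_cx (z : Fin n → ℤ) {x : ℂˣ} (h : x ^ 3 ^ a = 1) : (fun i => x ^ z i) ^ 3 ^ a = 1 := funext fun i => by
  show (x ^ z i) ^ 3 ^ a = 1
  rw [← zpow_natCast, ← _root_.zpow_mul, mul_comm, _root_.zpow_mul, zpow_natCast, h, _root_.one_zpow]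

theorem fx_cx (z : Fin n → ℤ) {x : ℂˣ} (h : x ^ 3 ^ a = 1) : Fx D w₀ (cx D (z ᵥ* B.L) x) :=
  cx_lab B.L z x ▸ B.fx_lab (pow_cx z h)

/-- the signs -/
noncomputable def sn (v : CW D w₀) : Fin n → ℤˣ := (B.act v v.2).choose_spec.choose

/-- the permutation of the coordinates -/
noncomputable def pm (v : CW D w₀) : Perm (Fin n) := (B.act v v.2).choose

theorem L_pm (v : CW D w₀) : B.L * D.Wm v = spm (B.pm v) (B.sn v) * B.L := (B.act v v.2).choose_spec.choose_spec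

theorem spm_mul_eq (u v : CW D w₀) : spm (B.pm (u * v)) (B.sn (u * v)) = spm (B.pm u) (B.sn u) * spm (B.pm v) (B.sn v) :=
  B.cancel (by rw [← L_pm, Matrix.mul_assoc, ← L_pm, ← Matrix.mul_assoc, ← L_pm, Matrix.mul_assoc, ← D.Wm_mul]; rfl)

/-- the permutation of the coordinates -/
noncomputable def κ : ↥(CW D w₀) →* Perm (Fin n) :=
  MonoidHom.mk' B.pm fun u v => (spm_inj.1 ((B.spm_mul_eq u v).trans (spm_mul _ _ _ _))).1

theorem L_Wm (v : CW D w₀) : B.L * D.Wm v = spm (B.κ v) (B.sn v) * B.L := B.L_pm v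

theorem rel_lab (v : CW D w₀) (y y' : Fin n → ℂˣ) :
    Rel D v (lab D B.L y) (lab D B.L y') ↔ ∀ i, y' (B.κ v i) ^ (B.sn v i : ℤ) = y i := by
  refine ⟨fun h i => ?_, fun h z => ?_⟩
  · obtain ⟨z, hz⟩ := B.L_surj (Pi.single i 1)
    have h1 := h z
    rwa [chr_lab, chr_lab, mulVec_mulVec, L_Wm, ← mulVec_mulVec, hz, spm_mulVec_single, mul_one, chr_single,
      ← mul_one (B.sn v i : ℤ), ← smul_eq_mul, Pi.single_smul', chr_zsmul, chr_single] at h1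
  · rw [chr_lab, chr_lab, mulVec_mulVec, L_Wm, ← mulVec_mulVec, chr_apply, chr_apply, ← Equiv.prod_comp (B.κ v)]
    exact Finset.prod_congr rfl fun i _ => by rw [spm_mulVec, _root_.zpow_mul, h]

theorem sq_of_ker {v : CW D w₀} (h : B.κ v = 1) : v * v = 1 := Subtype.ext (B.inj _ (v * v).2 (by
  rw [Subgroup.coe_mul, D.Wm_mul, ← Matrix.mul_assoc, L_Wm, Matrix.mul_assoc, L_Wm, ← Matrix.mul_assoc, h, spm_mul,
    mul_one, show (fun j => B.sn v ((1 : Perm (Fin n)) j) * B.sn v j) = 1 from funext fun j => Int.units_mul_self _,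
    spm_one, Matrix.one_mul]))

theorem eq_one_of_ker {v : CW D w₀} (h : B.κ v = 1) {i : ℕ} (h3 : v ^ 3 ^ i = 1) : v = 1 := by
  rw [← pow_one v, ← (Nat.Coprime.pow_left i (show Nat.Coprime 3 2 by decide)).gcd_eq_one]
  exact pow_gcd_eq_one.2 ⟨h3, by rw [pow_two, B.sq_of_ker h]⟩

include B in
theorem fact_le : (Nat.card (CW D w₀)).factorization 3 ≤ (Nat.card (Perm (Fin n))).factorization 3 := by
  have : Fact (Nat.Prime 3) := ⟨Nat.prime_three⟩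
  obtain ⟨R⟩ : Nonempty (Sylow 3 (CW D w₀)) := inferInstance
  rw [← Nat.prime_three.pow_dvd_iff_le_factorization Nat.card_pos.ne', ← R.card_eq_multiplicity]
  refine Subgroup.card_dvd_of_injective (B.κ.comp (R : Subgroup (CW D w₀)).subtype)
    ((injective_iff_map_eq_one _).2 fun v hv => ?_)
  obtain ⟨i, hi⟩ := R.isPGroup' v
  exact Subtype.ext (B.eq_one_of_ker hv (congrArg Subtype.val hi))

theorem idx_k [Fintype ↥(GF F G)] : ¬ 3 ∣ B.bk.dg.range.index := B.bk.not_dvd_index B.fact_le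

theorem idx_3 [Fintype ↥(GF F G)] (h : n = 4 ∨ n = 5) : ¬ 3 ∣ (B.b3 h).dg.range.index := (B.b3 h).not_dvd_index (B.fact_le.trans (by
  rcases h with rfl | rfl <;> simp only [Nat.card_eq_fintype_card, Fintype.card_perm, Fintype.card_fin] <;> decide +kernel))

variable {α : Type} [Fintype α] [DecidableEq α] {r : ℕ} {x x' : ℂˣ}

theorem coord {r' : ℕ} (C : Blk D w₀ α (ind n r ᵥ* B.L)) (hx : N3 x) (hx' : x' ^ 3 ^ a = 1) {v : D.W}
    (h : Rel D v (cx D (ind n r ᵥ* B.L) x) (cx D (ind n r' ᵥ* B.L) x')) :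
    ∃ π : Perm (Fin n), ∀ i : Fin n, (i : ℕ) < r → (π i : ℕ) < r' ∧ (x' = x ∨ x' = x⁻¹) := by
  obtain ⟨v₀, h1, h2⟩ := C.fus x v _ hx.1 hx.2 (B.fx_cx _ hx') h
  rw [cx_lab, cx_lab] at h2
  refine ⟨B.κ ⟨v₀, h1⟩, fun i hi => ?_⟩
  have h3 := (B.rel_lab ⟨v₀, h1⟩ _ _).1 h2 i
  simp only [ind, if_pos hi, zpow_one] at h3
  split_ifs at h3 with h4
  · refine ⟨h4, ?_⟩
    rcases Int.units_eq_one_or (B.sn ⟨v₀, h1⟩ i) with h5 | h5 <;> rw [h5] at h3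
    · exact .inl (by simpa using h3)
    · exact .inr (by simp [← h3])
  · exact absurd (by simpa using h3.symm) hx.1

theorem cx_ne (hr : 1 ≤ r) (hx : N3 x) : cx D (ind n r ᵥ* B.L) x ≠ 1 := fun h => by
  rw [cx_lab, ← lab_one' B.L] at h
  have := congrFun (B.lab_inj h) ⟨0, B.n_pos⟩
  exact hx.1 (by simpa [ind, show 0 < r from hr] using this)

variable {f : Fr D} [Fintype ↥(GF F G)] {S : Type} [Group S] [Finite S] {M : Ideal AlgInt} {s : Sit D Adm S}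
  (hA : Api f) (hC : Mc f w₀) (hc : s.Cop) (hM : IsPModular 3 M) {ψ ψ' : IrrCharacter S} {e e' : Bool}

/-- the matrix is a scalar modulo `W` -/
def Sca (A : Matrix D.R D.R ℤ) : Prop := ∃ (v : D.W) (t : ℤ), ¬ 3 ∣ t ∧ D.Wm v * A = t • (1 : Matrix D.R D.R ℤ)

/-- the matrix moves the labels to another class -/
def Nev (xv : D.R → ℤ) (A : Matrix D.R D.R ℤ) : Prop :=
  ∀ (v : D.W) (t : ℤ), ¬ ∀ i, (3 : ℤ) ∣ (xv ᵥ* (A * D.Wm v) - t • xv) i

theorem pow_zpow (h : x ^ 3 ^ a = 1) (t : ℤ) : (x ^ t) ^ 3 ^ a = 1 := congrFun (pow_cx (n := 1) (fun _ => t) h) 0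

theorem exists_dot (hr : 1 ≤ r) : ∃ z, (ind n r ᵥ* B.L) ⬝ᵥ z = 1 := by
  obtain ⟨z, hz⟩ := B.L_surj (Pi.single ⟨0, B.n_pos⟩ 1)
  exact ⟨z, by rw [← dotProduct_mulVec, hz, dotProduct_single, mul_one, ind, if_pos (show 0 < r from hr)]⟩

theorem Nev.not_tr {xv : D.R → ℤ} {A : Matrix D.R D.R ℤ} (h : Nev xv A) {z₀ : D.R → ℤ} (h0 : xv ⬝ᵥ z₀ = 1) (hx : N3 x)
    (v : D.W) : ¬ ∀ z, chr ((A * D.Wm v) *ᵥ z) (cx D xv x) = chr z (cx D xv x') := fun h1 => by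
  simp only [chr_cx, dotProduct_mulVec] at h1
  refine h v (xv ᵥ* (A * D.Wm v) ⬝ᵥ z₀) fun i => hx.dvd ?_
  have h2 := h1 z₀
  have h3 := h1 (Pi.single i 1)
  rw [h0, zpow_one] at h2
  rw [dotProduct_single, dotProduct_single, mul_one, mul_one] at h3
  rw [Pi.sub_apply, Pi.smul_apply, smul_eq_mul, _root_.zpow_sub, _root_.zpow_mul, h2, h3, mul_inv_cancel]

include hA hC hc hM

/-- the parameters of a member -/
theorem ps_inj {C : Blk D w₀ α (ind n r ᵥ* B.L)} (hr : 1 ≤ r) (hx : N3 x) (hx' : N3 x') (ha' : x' ^ 3 ^ a = 1)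
    {μ μ' : IrrCharacter (Perm α)} (hu : e ≠ e' → ∃ u ∈ C.U, (D.Wm u).det = -1) (h : C.Ps f M x μ e s ψ)
    (h' : C.Ps f M x' μ' e' s ψ) : (x' = x ∨ x' = x⁻¹) ∧ μ = μ' ∧ e = e' := by
  have h1 := h.ip hA hC hc hM h'
  have hF := B.fx_cx (ind n r) ha'
  obtain ⟨v, hv⟩ := C.rel_of_ip C hF h1
  obtain ⟨π, h2⟩ := B.coord C hx ha' hv
  have h3 := (h2 ⟨0, B.n_pos⟩ hr).2
  have h4 : C.X f x μ e = C.X f x' μ e := by
    rcases h3 with rfl | rfl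
    · rfl
    · rw [← C.X_inv hx' (v := v) (by rwa [inv_inv]), inv_inv]
  rw [h4] at h1
  obtain rfl : e = e' := by
    by_contra h5
    obtain ⟨u, h6, h7⟩ := hu h5
    cases e <;> cases e'
    · exact h5 rfl
    · exact h1 (C.ip_X_sign hx' hF (isIrr_isClassFunction μ.2) h6 h7)
    · exact h1 (by rw [← classInner_conj_symm, C.ip_X_sign hx' hF (isIrr_isClassFunction μ'.2) h6 h7, map_zero])
    · exact h5 rfl
  rw [C.ip_X_same hx' hF (isIrr_isClassFunction μ.2)] at h1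
  exact ⟨h3, Subtype.ext (by_contra fun h5 => h1 (classInner_irr_ne μ.2 μ'.2 h5)), rfl⟩

theorem apart_same {C : Blk D w₀ α (ind n r ᵥ* B.L)} (hr : 1 ≤ r) (hd : ∀ A, Adm A → Sca A ∨ Nev (ind n r ᵥ* B.L) A)
    (hx : N3 x) (ha : x ^ 3 ^ a = 1) (hx' : N3 x') (ha' : x' ^ 3 ^ a = 1) {μ μ' : IrrCharacter (Perm α)}
    (hu : e ≠ e' → ∃ u ∈ C.U, (D.Wm u).det = -1) (h : C.Ps f M x μ e s ψ) (h' : C.Ps f M x' μ' e' s ψ')
    (hne : ¬ ((x' = x ∨ x' = x⁻¹) ∧ μ = μ' ∧ e = e')) : Apart3 ψ ψ' := by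
  intro σ m g hm hg h1
  obtain rfl : tr σ ψ = ψ' := Subtype.ext (funext h1)
  obtain ⟨β, A, hβ, h2, l⟩ := exists_lifts s σ
  rcases hd A h2 with ⟨v, t, ht, hv⟩ | h3
  · obtain ⟨h3, h4⟩ := B.ps_inj hA hC hc hM hr (hx.zpow ht) hx' ha' hu (h.scalar hA hM (B.fx_cx _ ha) l hv ht) h'
    have h5 : ∀ i : ℕ, C.Ps f M (x ^ t ^ i) μ e s (tr (σ ^ i) ψ) := fun i => by
      induction i with
      | zero => rw [pow_zero, pow_zero, zpow_one]; exact h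
      | succ i ih =>
        rw [pow_succ, pow_succ, _root_.zpow_mul]
        exact ih.scalar hA hM (B.fx_cx _ (pow_zpow ha _)) l hv ht
    have h6 := h5 m
    rw [show tr (σ ^ m) ψ = ψ from Subtype.ext (funext (hg ▸ fixes_conj g ψ))] at h6
    have h7 := (B.ps_inj hA hC hc hM hr hx (hx.zpow fun h => ht (Int.prime_three.dvd_of_dvd_pow h)) (pow_zpow ha _)
      (fun h => absurd rfl h) h h6).1
    have h8 := hx.zpow_eq hm ht (by
      rw [two_mul, pow_add, _root_.zpow_mul]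
      rcases h7 with h7 | h7
      · rw [h7, h7]
      · rw [h7, _root_.inv_zpow, h7, inv_inv])
    refine hne ⟨?_, h4⟩
    rcases h3 with rfl | rfl <;> rcases h8 with h8 | h8 <;> simp [h8]
  · obtain ⟨v, hv⟩ := h.rel hA hC hc hM hx (B.fx_cx _ ha) μ.2 l h'
    obtain ⟨z, hz⟩ := B.exists_dot hr
    exact h3.not_tr hz hx v hv

theorem apart_diff (hn : n = 4 ∨ n = 5) (hx : N3 x) (ha : x ^ 3 ^ a = 1) (ha' : x' ^ 3 ^ a = 1) {μ : Perm (Fin n) → ℂ}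
    {μ' : Perm (Fin 3) → ℂ} (h : B.bk.Ps f M x μ e s ψ) (h' : (B.b3 hn).Ps f M x' μ' e' s ψ') : Apart3 ψ ψ' := by
  intro σ m g _ _ h1
  obtain rfl : tr σ ψ = ψ' := Subtype.ext (funext h1)
  obtain ⟨β, A, hβ, h2, l⟩ := exists_lifts s σ
  obtain ⟨v, t, ht, hv⟩ := (B.adm A h2).resolve_right fun h => by omega
  obtain ⟨u, hu⟩ := B.bk.rel_of_ip _ (B.fx_cx _ ha') ((h.scalar hA hM (B.fx_cx _ ha) l hv ht).ip hA hC hc hM h')
  obtain ⟨π, h3⟩ := B.coord B.bk (hx.zpow ht) ha' hu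
  have h4 := (h3 (π.symm ⟨3, by omega⟩) (Fin.is_lt _)).1
  simp at h4

include B in
omit hC hc in
theorem fixes_three {xv : D.R → ℤ} {C : Blk D w₀ α xv} (hx : x ^ 3 = 1) (hF : ∀ y : ℂˣ, y ^ 3 = 1 → Fx D w₀ (cx D xv y))
    {μ : Perm α → ℂ} (h : C.Ps f M x μ e s ψ) {σ : MulAut S} {g : S} (hg : σ ^ 3 = MulAut.conj g) : Fixes σ ψ := by
  have h0 : ∀ (y : ℂˣ) (t : ℤ), y ^ 3 = 1 → (y ^ t) ^ 3 = 1 := fun y t hy => pow_zpow (a := 1) hy t
  obtain ⟨t, ht, h1⟩ : ∃ t : ℤ, ¬ 3 ∣ t ∧ ∀ (y : ℂˣ) ψ, y ^ 3 = 1 → C.Ps f M y μ e s ψ →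
      C.Ps f M (y ^ t) μ e s (tr (σ * σ) ψ) := by
    obtain ⟨β, A, hβ, h2, l⟩ := exists_lifts s σ
    rcases B.adm A h2 with ⟨v, t, ht, hv⟩ | ⟨-, ⟨t, ht, hv⟩, -⟩
    · refine ⟨t * t, fun h => ht ((Int.prime_three.dvd_or_dvd h).elim id id), fun y ψ hy h => ?_⟩
      rw [_root_.zpow_mul]
      exact (h.scalar hA hM (hF y hy) l hv ht).scalar hA hM (hF _ (h0 y t hy)) l hv ht
    · exact ⟨t, ht, fun y ψ hy h => h.scalar hA hM (hF y hy) (l.mul l) (v := 1) (by rw [D.Wm_one, one_mul, hv]) ht⟩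
  have h2 := h1 _ _ (h0 x t hx) (h1 x ψ hx h)
  obtain ⟨c, hc⟩ : ∃ c, t * t = 3 * c + 1 := by
    obtain ⟨u, rfl | rfl | rfl⟩ : ∃ u, t = 3 * u ∨ t = 3 * u + 1 ∨ t = 3 * u + 2 := ⟨t / 3, by omega⟩
    · exact absurd (Dvd.intro _ rfl) ht
    · exact ⟨3 * u ^ 2 + 2 * u, by ring⟩
    · exact ⟨3 * u ^ 2 + 4 * u + 1, by ring⟩
  rw [← _root_.zpow_mul, hc, _root_.zpow_add, _root_.zpow_mul, zpow_ofNat, hx, _root_.one_zpow, one_mul, zpow_one] at h2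
  have h3 : Fixes (σ * σ * (σ * σ)) ψ := fun y => congrFun (congrArg Subtype.val (h2.unique h)) y
  have h4 := fixes_mul h3 (fixes_inv (hg ▸ fixes_conj g ψ : Fixes (σ ^ 3) ψ))
  rwa [show σ * σ * (σ * σ) * (σ ^ 3)⁻¹ = σ by group] at h4

omit hC hc in
theorem fixes_of_tr {C : Blk D w₀ α (ind n r ᵥ* B.L)} (hr : 1 ≤ r) (hx : N3 x) (ha : x ^ 3 ^ a = 1) {μ : Perm α → ℂ}
    (h : C.Ps f M x μ e s ψ) {σ : MulAut S} {β : MulAut Y} {A : Matrix D.R D.R ℤ} {hβ : Au D β A} (l : Lifts s σ hβ)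
    (hs : Sca A) {u : D.W} (hu : Tr D (D.Wm u * A) (cx D (ind n r ᵥ* B.L) x) (cx D (ind n r ᵥ* B.L) x)) : Fixes σ ψ := by
  obtain ⟨v, t, ht, hv⟩ := hs
  have h1 := h.scalar hA hM (B.fx_cx _ ha) l hv ht
  have h2 : Rel D (v * u⁻¹) (cx D (ind n r ᵥ* B.L) (x ^ t)) (cx D (ind n r ᵥ* B.L) x) := Rel.symm (u := u * v⁻¹) (fun z => by
    rw [← hu z, cx_zpow, map_zpow, ← chr_zsmul, ← smul_mulVec, ← mul_one (D.Wm _), ← Matrix.mul_smul, ← hv, ← mul_assoc,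
      ← D.Wm_mul, inv_mul_cancel_right]) |> fun h => by simpa using h
  obtain ⟨π, h3⟩ := B.coord C (hx.zpow ht) ha h2
  have h4 : C.X f (x ^ t) μ e = C.X f x μ e := by
    rcases (h3 ⟨0, B.n_pos⟩ hr).2 with h4 | h4
    · rw [← h4]
    · rw [inv_eq_iff_eq_inv.2 h4 |>.symm] at h2 ⊢
      exact C.X_inv hx h2
  have h5 : C.Ps f M x μ e s (tr σ ψ) := by rwa [Blk.Ps, h4] at h1
  exact fun y => congrFun (congrArg Subtype.val (h5.unique h)) y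

variable (hp : p ≠ 3) (hS : ¬ IsMulCommutative S)
include hp hS

omit hc in
/-- two more members -/
theorem exists_extra : ∃ θ : Fin 2 → IrrCharacter S, Function.Injective θ ∧ ∀ i, Mem M (θ i) ∧ (∀ σ, Fixes σ (θ i)) ∧
    ∃ χ : IrrCharacter ↥(GF F G), s.Dn χ (θ i) ∧ ∀ w c, c ≠ 1 → classInner χ.1 (RW f w c) = 0 := by
  obtain ⟨st, h1, h2, h3, h4⟩ := s.exists_st hA hC hp hM hS
  refine ⟨![Tool.triv S, st], fun i j e => ?_, fun i => ?_⟩
  · fin_cases i <;> fin_cases j <;> first | rfl | exact absurd e (Tool.nontriv_iff.1 h2) | exact absurd e.symm (Tool.nontriv_iff.1 h2)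
  · fin_cases i
    · exact ⟨Tool.mem_triv hM, fun _ _ => rfl, Tool.triv _, s.dn_triv, fun w c h => (ip_one w c).trans (if_neg h)⟩
    · exact ⟨h1, h3, ⟨_, hA.st.1⟩, h4, fun w c h => (ip_st w c).trans (if_neg h)⟩

/-- `ψ` is a member of a block -/
def InB (f : Fr D) (M : Ideal AlgInt) (s : Sit D Adm S) (ψ : IrrCharacter S) : Prop :=
  Mem M ψ ∧ ∀ (χ : IrrCharacter ↥(GF F G)) (ψ' : IrrCharacter S), s.Dn χ ψ' →
    (∀ w c, c ≠ 1 → classInner χ.1 (RW f w c) = 0) → ψ ≠ ψ'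

omit hC hM hp hS in
theorem inB {C : Blk D w₀ α (ind n r ᵥ* B.L)} (hr : 1 ≤ r) (hx : N3 x) (ha : x ^ 3 ^ a = 1) {μ : IrrCharacter (Perm α)}
    (h : C.Ps f M x μ e s ψ) : InB f M s ψ :=
  ⟨h.mem, fun _ _ => h.ne_of hA hc hx (B.fx_cx _ ha) (B.cx_ne hr hx) μ.2⟩

omit hc in
theorem p10_of {ι : Type} [Fintype ι] (θ : ι → IrrCharacter S) (h8 : 8 ≤ Fintype.card ι) (h1 : ∀ i, InB f M s (θ i))
    (h2 : ∀ i j, i ≠ j → Apart3 (θ i) (θ j)) : P10 M S := by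
  obtain ⟨η, h3, h4⟩ := exists_extra (s := s) hA hC hM hp hS
  have h5 : ∀ i j, Apart3 (η i) (θ j) := fun i j =>
    let ⟨_, h6, χ, h7, h8⟩ := h4 i
    apart3_of_apart (apart_of_fixes h6 ((h1 j).2 χ _ h7 h8).symm)
  refine p10_of_fam (Sum.elim η θ) (by rw [Fintype.card_sum, Fintype.card_fin]; omega)
    (Sum.rec (fun i => (h4 i).1) fun i => (h1 i).1) ?_
  rintro (i | i) (j | j) h
  · exact apart3_of_apart (apart_of_fixes (h4 i).2.1 fun e => h (congrArg _ (h3 e)))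
  · exact h5 i j
  · exact apart3_symm (h5 j i)
  · exact h2 i j fun e => h (congrArg _ e)

omit hc in
theorem four_of (θ : Fin 2 → IrrCharacter S) (h0 : Function.Injective θ) (h1 : ∀ i, InB f M s (θ i)) {σ : MulAut S}
    (h2 : ∀ i, Fixes σ (θ i)) : ∃ R : Finset (IrrCharacter S), 4 ≤ R.card ∧ ∀ θ ∈ R, Mem M θ ∧ Fixes σ θ := by
  classical
  obtain ⟨η, h3, h4⟩ := exists_extra (s := s) hA hC hM hp hS
  refine ⟨Finset.univ.image (Sum.elim η θ), by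
    rw [Finset.card_image_of_injective _ (h3.sumElim h0 fun i j =>
      let ⟨_, _, χ, h7, h8⟩ := h4 i
      ((h1 j).2 χ _ h7 h8).symm)]
    simp, fun ψ h => ?_⟩
  obtain ⟨i | i, -, rfl⟩ := Finset.mem_image.1 h
  · exact ⟨(h4 i).1, (h4 i).2.1 σ⟩
  · exact ⟨(h1 i).1, h2 i⟩

omit hA hC hc hM hp hS in
theorem adm_k (A : Matrix D.R D.R ℤ) (h : Adm A) : Sca A ∨ Nev (ind n n ᵥ* B.L) A := (B.adm A h).imp id fun h => h.2.2.2

include B in
theorem p10_grid {b h m : ℕ} (hb : b ≤ a) (hh : 2 * h < 3 ^ b) (μ : Fin m → IrrCharacter (Perm (Fin n)))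
    (h1 : Function.Injective μ) (h2 : ∀ i, ¬ 3 ∣ charDegree (μ i : Perm (Fin n) → ℂ)) (h8 : 8 ≤ h * m) : P10 M S := by
  obtain ⟨xs, h3, h4⟩ := exists_xs b h hh
  have h5 : ∀ i, xs i ^ 3 ^ a = 1 := fun i => pow_one_of_dvd (h3 i).2 (pow_dvd_pow 3 hb)
  choose θ hθ using fun t : Fin h × Fin m =>
    Blk.exists_ps (B := B.bk) hA hC hc hM (h3 t.1).1 (B.fx_cx _ (h5 t.1)) B.idx_k (μ t.2) (h2 t.2) false
  exact p10_of hA hC hM hp hS θ (by simpa using h8) (fun t => B.inB hA hc B.n_pos (h3 t.1).1 (h5 t.1) (hθ t))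
    fun t t' h => B.apart_same hA hC hc hM B.n_pos B.adm_k (h3 t.1).1 (h5 t.1) (h3 t'.1).1 (h5 t'.1)
      (fun h => absurd rfl h) (hθ t) (hθ t') fun h6 => h (Prod.ext (h4 _ _ h6.1) (h1 h6.2.1))

theorem p10_mix (hn : n = 4 ∨ n = 5) {m : ℕ} (hm : m ≤ n3 (Perm (Fin n))) {E : Type} [Fintype E] (ε : E → Bool)
    (h1 : Function.Injective ε) (hu : ∀ i j, ε i ≠ ε j → ∃ u ∈ (B.b3 hn).U, (D.Wm u).det = -1)
    (h8 : 8 ≤ m + 3 * Fintype.card E) : P10 M S := by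
  obtain ⟨xs, h3, -⟩ := exists_xs 1 1 (by norm_num)
  have h5 : xs 0 ^ 3 ^ a = 1 := pow_one_of_dvd (h3 0).2 (pow_dvd_pow 3 B.a_pos)
  obtain ⟨μ, h6, h7⟩ := exists_fam hm
  obtain ⟨ν, h6', h7'⟩ := exists_fam (three_le (α := Fin 3) (by simp))
  choose θ hθ using fun i : Fin m => Blk.exists_ps (B := B.bk) hA hC hc hM (h3 0).1 (B.fx_cx _ h5) B.idx_k (μ i) (h7 i) false
  choose θ' hθ' using fun t : Fin 3 × E =>
    Blk.exists_ps (B := B.b3 hn) hA hC hc hM (h3 0).1 (B.fx_cx _ h5) (B.idx_3 hn) (ν t.1) (h7' t.1) (ε t.2)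
  refine p10_of hA hC hM hp hS (Sum.elim θ θ') (by simpa using h8)
    (Sum.rec (fun i => B.inB hA hc B.n_pos (h3 0).1 h5 (hθ i)) fun t => B.inB hA hc (by norm_num) (h3 0).1 h5 (hθ' t)) ?_
  rintro (i | i) (j | j) h
  · exact B.apart_same hA hC hc hM B.n_pos B.adm_k (h3 0).1 h5 (h3 0).1 h5 (fun h => absurd rfl h) (hθ i) (hθ j)
      fun e => h (congrArg _ (h6 e.2.1))
  · exact B.apart_diff hA hC hc hM hn (h3 0).1 h5 h5 (hθ i) (hθ' j)
  · exact apart3_symm (B.apart_diff hA hC hc hM hn (h3 0).1 h5 h5 (hθ j) (hθ' i))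
  · exact B.apart_same hA hC hc hM (by norm_num) (fun A h => .inl ((B.adm A h).resolve_right fun h => by omega))
      (h3 0).1 h5 (h3 0).1 h5 (hu _ _) (hθ' i) (hθ' j) fun e => h (congrArg _ (Prod.ext (h6' e.2.1) (h1 e.2.2)))

include B in
theorem p10 (h : 3 ≤ a ∨ (2 ≤ n ∧ 2 ≤ a) ∨ 4 ≤ n) : P10 M S := by
  rcases h with h | ⟨h, h'⟩ | h
  · exact B.p10_grid hA hC hc hM hp hS (h := 13) (m := 1) h (by norm_num) (fun _ => Tool.triv _)
      (fun _ _ _ => Subsingleton.elim _ _) (fun _ => (Tool.mem_triv hM).2) (by norm_num)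
  · have : Nontrivial (Fin n) := Fin.nontrivial_iff_two_le.2 h
    obtain ⟨μ, h1, h2⟩ := exists_two (Fin n)
    exact B.p10_grid hA hC hc hM hp hS (h := 4) h' (by norm_num) μ h1 h2 (by norm_num)
  obtain h4 | h5 | h6 : n = 4 ∨ n = 5 ∨ 6 ≤ n := by omega
  · exact B.p10_mix hA hC hc hM hp hS (.inl h4) (three_le (by simp; omega)) id Function.injective_id
      (fun _ _ _ => B.refl h4) (by simp)
  · exact B.p10_mix hA hC hc hM hp hS (.inr h5) (six_le (by simp; omega)) (fun _ : Unit => false)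
      (fun _ _ _ => rfl) (fun _ _ h => absurd rfl h) (by simp)
  · obtain ⟨μ, h1, h2⟩ := exists_fam (nine_le (α := Fin n) (by simpa using h6))
    exact B.p10_grid hA hC hc hM hp hS (h := 1) B.a_pos (by norm_num) μ h1 h2 (by norm_num)

include B in
theorem p4 (h : 2 ≤ n) : P4 M S := by
  intro σ g hg _
  have : Nontrivial (Fin n) := Fin.nontrivial_iff_two_le.2 h
  obtain ⟨μ, h1, h2⟩ := exists_two (Fin n)
  obtain ⟨xs, h3, -⟩ := exists_xs 1 1 (by norm_num)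
  have h5 : ∀ y : ℂˣ, y ^ 3 = 1 → y ^ 3 ^ a = 1 := fun y hy => pow_one_of_dvd hy (dvd_pow_self 3 (Nat.one_le_iff_ne_zero.1 B.a_pos))
  choose θ hθ using fun i => Blk.exists_ps (B := B.bk) hA hC hc hM (h3 0).1 (B.fx_cx _ (h5 _ (h3 0).2)) B.idx_k (μ i) (h2 i) false
  exact four_of hA hC hM hp hS θ (fun i j e => h1 (B.ps_inj hA hC hc hM B.n_pos (h3 0).1 (h3 0).1 (h5 _ (h3 0).2)
    (fun h => absurd rfl h) (hθ i) (e ▸ hθ j)).2.1) (fun i => B.inB hA hc B.n_pos (h3 0).1 (h5 _ (h3 0).2) (hθ i))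
    fun i => B.fixes_three hA hM (h3 0).2 (fun y hy => B.fx_cx _ (h5 y hy)) (hθ i) hg

/-- an automorphism which fixes the labels of order dividing nine -/
theorem four (h : 2 ≤ a) {σ : MulAut S} {β : MulAut Y} {A : Matrix D.R D.R ℤ} {hβ : Au D β A} (l : Lifts s σ hβ)
    (hs : Sca A) {u : D.W} (hu : ∀ x : ℂˣ, x ^ 9 = 1 →
      Tr D (D.Wm u * A) (cx D (ind n n ᵥ* B.L) x) (cx D (ind n n ᵥ* B.L) x)) :
    ∃ R : Finset (IrrCharacter S), 4 ≤ R.card ∧ ∀ θ ∈ R, Mem M θ ∧ Fixes σ θ := by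
  obtain ⟨xs, h3, h4⟩ := exists_xs 2 2 (by norm_num)
  have h5 : ∀ i, xs i ^ 3 ^ a = 1 := fun i => pow_one_of_dvd (h3 i).2 (pow_dvd_pow 3 h)
  choose θ hθ using fun i =>
    Blk.exists_ps (B := B.bk) hA hC hc hM (h3 i).1 (B.fx_cx _ (h5 i)) B.idx_k (Tool.triv _) (Tool.mem_triv hM).2 false
  exact four_of hA hC hM hp hS θ (fun i j e => h4 _ _ (B.ps_inj hA hC hc hM B.n_pos (h3 i).1 (h3 j).1 (h5 j)
    (fun h => absurd rfl h) (hθ i) (e ▸ hθ j)).1) (fun i => B.inB hA hc B.n_pos (h3 i).1 (h5 i) (hθ i))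
    fun i => B.fixes_of_tr hA hM B.n_pos (h3 i).1 (h5 i) (hθ i) l hs (hu _ (h3 i).2)

end BLike

end Cfsg.Agent.KZ.Cl
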