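import Cfsg.Agent.KZ.Cl.Nab
import Cfsg.Agent.KZ.Ch3X.Gen

/-!
# KZ, the B-like groups: the rows (helper14)

`BLike.rowAt`.
-/

set_option autoImplicit false
set_option linter.unusedSectionVars false

namespace Cfsg.Agent.KZ.Cl

open Cfsg Cfsg.Agent.DL Cfsg.Agent.DL.PP Cfsg.Agent.KZ.Lie Matrix Equiv Cfsg.Agent.KZ.Res Cfsg.Agent.KZ.Ch3X

section

variable {M : Ideal AlgInt} {A : Type} [Group A] [Finite A] {N : Subgroup A} [hN : N.Normal] (P : Sylow 3 A)

theorem cyc_quot (hc : Subgroup.centralizer (N : Set A) = ⊥) (ho : OC3 ↥N) :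
    IsCyclic (↥(P : Subgroup A) ⧸ N.subgroupOf P) := by
  have hk : ((outHom N).comp (P : Subgroup A).subtype).ker = N.subgroupOf P := by
    rw [← MonoidHom.comap_ker, outHom_ker hc]
    rfl
  have h3 := ho _ (P.isPGroup'.of_surjective _ ((outHom N).comp (P : Subgroup A).subtype).rangeRestrict_surjective)
  exact isCyclic_of_surjective _ ((QuotientGroup.quotientKerEquivRange _).symm.trans
    (QuotientGroup.quotientMulEquivOfEq hk)).surjective

theorem cyc_out (h : IsCyclic (↥(P : Subgroup A) ⧸ N.subgroupOf P)) :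
    IsCyclic ↥((P : Subgroup A).map (QuotientGroup.mk' N)) ∧ out N P = (N.subgroupOf P).index := by
  have e := (QuotientGroup.quotientMulEquivOfEq (show N.subgroupOf P = ((QuotientGroup.mk' N).subgroupMap P).ker from
    Subgroup.ext fun q => (Subtype.ext_iff.trans (QuotientGroup.eq_one_iff _)).symm)).trans
      (QuotientGroup.quotientKerEquivOfSurjective _ (MonoidHom.subgroupMap_surjective _ _))
  have h1 := isCyclic_of_surjective _ e.surjective
  exact ⟨h1, by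
    rw [out, (commutator_eq_bot_iff_center_eq_top _).2 (Subgroup.center_eq_top_iff.2 inferInstance), Subgroup.index_bot,
      ← Nat.card_congr e.toEquiv]
    rfl⟩

theorem upx_one (hM : IsPModular 3 M) (V : Subgroup ↥(P : Subgroup A)) (hV : V.index = 1)
    (hab : ∀ a ∈ V, ∀ b ∈ V, a * b = b * a) (h9 : nab P ≤ 9) : k0 M A ≤ 9 := by
  have : Fact (Nat.Prime 3) := ⟨Nat.prime_three⟩
  obtain rfl := Subgroup.index_eq_one.1 hV
  rw [nab_of_comm P ⟨⟨fun a b => hab a trivial b trivial⟩⟩] at h9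
  exact upx_card hM fun h => absurd (Nat.le_of_dvd Nat.card_pos (P.pow_dvd_card_of_pow_dvd_card (n := 3) h)) (by omega)

end

theorem exists_pow_of_nine {y : ℂˣ} {a : ℕ} (h : y ^ 3 ^ a = 1) (h3 : y ^ 3 ≠ 1) :
    2 ≤ a ∧ ∀ z : ℂˣ, z ^ 9 = 1 → ∃ m : ℕ, y ^ m = z := by
  obtain ⟨j, h1, h2⟩ := (Nat.dvd_prime_pow Nat.prime_three).1 (orderOf_dvd_of_pow_eq_one h)
  have h4 : 2 ≤ j := by_contra fun h4 => h3 (orderOf_dvd_iff_pow_eq_one.1 (h2 ▸ pow_dvd_pow 3 (show j ≤ 1 by omega)))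
  refine ⟨h4.trans h1, fun z hz => ?_⟩
  obtain ⟨m, -, hm⟩ := (h2 ▸ IsPrimitiveRoot.orderOf y).eq_pow_of_mem_rootsOfUnity
    (pow_one_of_dvd hz (pow_dvd_pow 3 h4))
  exact ⟨m, hm⟩

variable {p : ℕ} [Fact p.Prime] {k : Type} [Field k] [CharP k p] {Y : Type} [Group Y] {N : Type} [Fintype N]
  [DecidableEq N] {ρ : Y →* GL N k} {F : MulAut Y} {G : Subgroup Y} [IsAlgClosed k] {D : Datum p ρ F G}
  [Fintype ↥(GF F G)] {Adm : Matrix D.R D.R ℤ → Prop} {w₀ : D.W} {n a : ℕ} {f : Fr D} {S : Type} [Group S] [Finite S]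
  {s : Sit D Adm S} {A : Type} [Group A] [Finite A] {N₀ : Subgroup A} [hN : N₀.Normal] {P : Sylow 3 A}
  {M : Ideal AlgInt}

namespace BLike

variable (B : BLike D Adm w₀ n a) (L : Loc2 f s w₀ A N₀ P)
include B

theorem exists_idx : ∃ i j, (N₀.subgroupOf (P : Subgroup A)).index = 3 ^ i ∧ 3 ^ j ∣ n.factorial ∧ (n ≤ 3 → j ≤ n / 3) ∧
    (L.Tb.subgroupOf (P : Subgroup A)).index = 3 ^ (j + i) := by
  have : Fact (Nat.Prime 3) := ⟨Nat.prime_three⟩
  obtain ⟨i, hi⟩ := P.2.index (N₀.subgroupOf (P : Subgroup A))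
  obtain ⟨j, h1, h2⟩ := B.relIndex_dvd L
  refine ⟨i, j, hi, h1, fun h => by_contra fun h3 => ?_, ?_⟩
  · have h4 := (pow_dvd_pow 3 (not_le.1 h3 : n / 3 + 1 ≤ j)).trans h1
    interval_cases n <;> exact absurd h4 (by decide)
  · rw [pow_add, ← h2, ← hi]
    exact (Subgroup.relIndex_mul_index fun x hx => Subgroup.mem_subgroupOf.2 (L.N1_eq.le (L.Tb_le hx)).2).symm

variable (hA : Api f) (hc : s.Cop) (hM : IsPModular 3 M)
include L hA hc

theorem big (hcyc : IsCyclic (↥(P : Subgroup A) ⧸ N₀.subgroupOf P)) {i : ℕ}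
    (hi : (N₀.subgroupOf (P : Subgroup A)).index = 3 ^ i) (hn : 3 ≤ n) (h : ¬ (n = 3 ∧ a = 1 ∧ i = 0)) : 27 ≤ nab P := by
  have : Fact (Nat.Prime 3) := ⟨Nat.prime_three⟩
  obtain ⟨T⟩ : Nonempty (Sylow 3 (Perm (Fin n))) := inferInstance
  obtain ⟨h1, h2⟩ := cyc_out P hcyc
  have h3 := B.low L hA hc h1 T
  have h4 := nab_perm (k := 1) (by norm_num) hn (by decide) T
  rw [h2, hi] at h3
  rcases i with _ | i
  swap
  · have h5 : 0 < 3 ^ i := by positivity
    rw [pow_succ] at h3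
    nlinarith
  have hP : (P : Subgroup A) ≤ N₀ := fun x hx => (Subgroup.index_eq_one.1 hi).ge (Subgroup.mem_top ⟨x, hx⟩)
  obtain h5 | h5 | h5 : n = 3 ∨ (n = 4 ∨ n = 5) ∨ 6 ≤ n := by omega
  · have := finite_R3 2
    have h6 := B.low_in L hA hc hP T le_top ((spl_perm _).congr Subgroup.topEquiv.symm).1 (fun (x : R3 2) _ => x.1)
      (fun x => pow_const (by have := B.a_pos; omega) x.2) (fun x x' e => Subtype.ext (congrFun e ⟨0, B.n_pos⟩))
      fun _ _ _ _ => rfl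
    rw [card_R3] at h6
    omega
  · have := finite_R3 1
    have : Nontrivial (Fin n) := Fin.nontrivial_iff_two_le.2 (by omega)
    obtain ⟨u, hu⟩ := T.2.nonempty_fixed_point_of_prime_not_dvd_card (Fin n) (by rw [Nat.card_fin]; omega)
    obtain ⟨v, hv⟩ := exists_ne u
    have : IsCyclic ↥(T : Subgroup (Perm (Fin n))) := isCyclic_of_prime_card (p := 3) (by
      rw [Alt.card_sylow]
      rcases h5 with rfl | rfl <;> decide +kernel)
    have h6 := B.low_in L hA hc hP T le_rfl splE_cyclic (fun (x : R3 1 × R3 1) j => if j = u then x.1.1 else x.2.1)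
      (fun x => funext fun j => by
        show (if j = u then x.1.1 else x.2.1) ^ 3 ^ a = 1
        split_ifs
        exacts [pow_one_of_dvd x.1.2 (pow_dvd_pow 3 B.a_pos), pow_one_of_dvd x.2.2 (pow_dvd_pow 3 B.a_pos)])
      (fun x x' e => Prod.ext (Subtype.ext (by simpa using congrFun e u)) (Subtype.ext (by simpa [hv] using congrFun e v)))
      fun _ g hg j => if_congr (by rw [← g.injective.eq_iff (a := j), show g u = u from hu ⟨g, hg⟩]) rfl rfl
    rw [Nat.card_prod, card_R3] at h6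
    omega
  · have h6 := nab_perm (k := 2) le_rfl h5 (by decide) T
    omega

include hM in
theorem up (h0 : AS A N₀) (ho : OC3 ↥N₀) (h9 : nab P = 9) : k0 M A ≤ 9 := by
  have hcyc := cyc_quot P h0.cent ho
  obtain ⟨i, j, h1, -, h2, h3⟩ := B.exists_idx L
  have hab : ∀ x ∈ L.Tb.subgroupOf (P : Subgroup A), ∀ y ∈ L.Tb.subgroupOf (P : Subgroup A), x * y = y * x :=
    fun x hx y hy => Subtype.ext (L.Tb_comm _ hx _ hy)
  by_cases hn : 3 ≤ n
  · obtain ⟨rfl, rfl, rfl⟩ : n = 3 ∧ a = 1 ∧ i = 0 := by_contra fun h => by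
      have := B.big L hA hc hcyc h1 hn h
      omega
    obtain rfl | rfl : j = 0 ∨ j = 1 := by omega
    · exact upx_one P hM _ h3 hab h9.le
    · exact upx_81 hM P _ h3 hab (fun v hv => congrArg Subtype.val (B.pow_eq_one L hA hc ⟨v, hv⟩)) (B.le_card L hA hc) h9.le
  obtain rfl : j = 0 := by omega
  have h4 := three_mul_dvd_nab h0.three P hcyc
  rw [Subgroup.relIndex, h1, h9, ← pow_succ'] at h4
  obtain rfl | rfl : i = 0 ∨ i = 1 := by
    have := (Nat.pow_dvd_pow_iff_le_right (x := 3) (l := 2) (by norm_num)).1 h4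
    omega
  · exact upx_one P hM _ h3 hab h9.le
  · obtain ⟨x, hx⟩ := exists_not_mem (h1.trans_ne (by decide))
    refine upx_index_three hM P _ h3 hab x (fun v hv h => hx ?_) h9.le
    obtain ⟨c, h5⟩ := isConj_iff.1 h.symm
    exact Subgroup.mem_subgroupOf.2 (h5 ▸ hN.conj_mem _ (L.N1_eq.le (L.Tb_le hv)).2 c)

theorem small (h0 : ¬ 3 ∣ N₀.index) (h : ¬ (3 ≤ a ∨ (2 ≤ n ∧ 2 ≤ a) ∨ 4 ≤ n)) : nab P ≤ 9 := by
  have : Fact (Nat.Prime 3) := ⟨Nat.prime_three⟩
  have := finite_Mu n a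
  have key : ∀ {P : Sylow 3 A} (L : Loc2 f s w₀ A N₀ P), (L.Tb.subgroupOf (P : Subgroup A)).index ≤ 3 ^ (n / 3) :=
    fun {P} L => by
      obtain ⟨i, j, h1, -, h2, h3⟩ := B.exists_idx L
      rcases i with _ | i
      · exact h3 ▸ Nat.pow_le_pow_right (by norm_num) (h2 (by omega))
      · exact absurd (((dvd_pow_self 3 i.succ_ne_zero).trans h1.symm.dvd).trans
          (Subgroup.relIndex_dvd_index_of_normal N₀ P)) h0
  have h1 := B.n_pos
  have h2 := B.a_pos
  by_cases hn : n = 3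
  · obtain rfl : a = 1 := by omega
    subst hn
    obtain ⟨R, hR⟩ := (IsPGroup.of_card (p := 3) (n := 1) (G := Subgroup.zpowers (B.σ (finRotate 3))) (by
      rw [Nat.card_zpowers, orderOf_injective B.σ B.σ_inj]
      exact orderOf_eq_prime (by decide) (by decide))).exists_le_sylow
    obtain ⟨P', h3, h4⟩ := exists_sylow_onto L.ωC L.ωC_surj L.N1_le P L.P_le R
    obtain ⟨x, hx, e⟩ := (h4 _).1 (hR (Subgroup.mem_zpowers _))
    have := finite_R3 1
    rw [nab_eq P P']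
    refine (B.nab_le { L with P_le := h3 } hA hc).trans (Nat.mul_le_mul (key { L with P_le := h3 })
      ((Nat.card_le_card_of_injective (fun y => (⟨y.1.1 0, congrFun y.1.2 0⟩ : R3 1)) fun y y' h5 => ?_).trans
        (card_R3 1).le))
    have h6 : ∀ y : Fin 3 → ℂˣ, Tr D (L.B x) (lab D B.L y) (lab D B.L y) → y = fun _ => y 0 := fun y hy => by
      rw [L.B_N1, show L.ω x = B.σ (finRotate 3) from congrArg Subtype.val e] at hy
      have h6 := B.rel_σ.1 hy
      funext i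
      fin_cases i
      exacts [rfl, h6 0, (h6 2).symm]
    exact Subtype.ext (Subtype.ext ((h6 _ (y.2 x hx)).trans ((funext fun _ => congrArg Subtype.val h5).trans
      (h6 _ (y'.2 x hx)).symm)))
  refine (B.nab_le L hA hc).trans ((Nat.mul_le_mul (key L) ((Nat.card_le_card_of_injective _ Subtype.val_injective).trans
    (card_Mu n a).le)).trans ?_)
  obtain ⟨rfl, rfl | rfl⟩ | ⟨rfl, rfl⟩ : (n = 1 ∧ (a = 1 ∨ a = 2)) ∨ (n = 2 ∧ a = 1) := by omega
  all_goals norm_num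

include hM in
theorem twelve (hC : Mc f w₀) (hp : p ≠ 3) (hS : ¬ IsMulCommutative S) (hn : n = 1) (h0 : N₀.index = 3)
    (h : 27 ≤ nab P) : 12 ≤ k0 M A := by
  subst hn
  have := finite_R3 1
  obtain ⟨i, j, h1, -, h2, h3⟩ := B.exists_idx L
  obtain rfl : j = 0 := by omega
  have h4 : (L.Tb.subgroupOf (P : Subgroup A)).index ≤ 3 := by
    rw [h3, zero_add, ← h1]
    exact Nat.le_of_dvd (by omega) ((Subgroup.relIndex_dvd_index_of_normal N₀ P).trans h0.dvd)
  obtain ⟨y, h5, h6⟩ : ∃ y : Mu 1 a, (∀ x ∈ (P : Subgroup A), Tr D (L.B x) (lab D B.L y) (lab D B.L y)) ∧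
      y.1 0 ^ 3 ≠ 1 := by_contra fun h5 => by
    have h6 := (B.nab_le L hA hc).trans (Nat.mul_le_mul h4 ((Nat.card_le_card_of_injective
      (fun y => (⟨y.1.1 0, by_contra fun h6 => h5 ⟨y.1, y.2, h6⟩⟩ : R3 1)) fun y y' e => Subtype.ext (Subtype.ext
        (funext fun i => Subsingleton.elim 0 i ▸ congrArg Subtype.val e))).trans (card_R3 1).le))
    omega
  obtain ⟨h7, h8⟩ := exists_pow_of_nine (congrFun y.2 0) h6
  obtain ⟨x, hx⟩ := exists_not_mem (V := N₀.subgroupOf (P : Subgroup A)) fun e =>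
    absurd (e ▸ pow_dvd_relIndex P (k := 1) h0.symm.dvd : 3 ^ 1 ∣ 1) (by decide)
  obtain ⟨g, hg, β, E, v, h9, h10, h11, h12⟩ := L.B_aut x (L.P_le x.2)
  obtain ⟨R, h13, h14⟩ := B.four hA hC hc hM hp hS h7 (σ := MulAut.congr L.e (MulAut.conjNormal (x : A)))
    (lifts_of h9 hg fun u => (h12 u).imp fun u' h => ⟨h.1, (h.2 _ _ (L.e.apply_symm_apply _) rfl).symm⟩)
    ((B.adm E h10).resolve_right fun h => h.1.1 rfl) (u := v) fun z hz u => by
      obtain ⟨m, rfl⟩ := h8 z hz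
      rw [← h11, cx_n, show (fun _ => y.1 0 ^ m) = y.1 ^ m from funext fun i => Subsingleton.elim 0 i ▸ rfl, lab_pow,
        map_pow, map_pow, h5 x x.2]
  refine twelve_le_of hM h0 hx (R.map (tr L.e).toEmbedding) (by rwa [Finset.card_map]) fun θ hθ => ?_
  obtain ⟨θ, h15, rfl⟩ := Finset.mem_map.1 hθ
  exact ⟨(mem_tr hM _).2 (h14 θ h15).1, (fixes_tr _).2 (h14 θ h15).2⟩

omit L hA hc [Fintype ↥(GF F G)] [Finite S] in
/-- **The rows of the B-like groups.** -/
theorem rowAt (f : Fr D) [Fintype ↥(GF F G)] (hA : Api f) (hC : Mc f w₀) (hp : p ≠ 3) (s : Sit D Adm S) (hc : s.Cop)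
    (hAd : AdmC D Adm w₀) (hR : RegC D w₀) (ho : OC3 S) (hS : ¬ IsMulCommutative S) : RowAt S := by
  have := s.finite
  refine ⟨fun M hM A _ _ N h0 ⟨e⟩ P h => ?_, fun M hM A _ _ N h0 ⟨e⟩ hi P h => ?_, fun M hM => s.one hA hC hp hM hS⟩
  all_goals
    have := h0.normal
    obtain ⟨L⟩ := exists_loc s hA hp hC.card hAd hR (.inr hc.idx) A N e P
  · exact B.up L hA hc hM h0 (ho.congr e) h
  rcases hi with hi | hi
  · exact ten_le hM hi (p10_congr hM e (B.p10 hA hC hc hM hp hS (by_contra fun h1 => by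
      have := B.small L hA hc hi h1
      omega)))
  refine le_trans (by norm_num : 10 ≤ 12) ?_
  by_cases hn : 2 ≤ n
  · exact twelve_le hM h0.cent hi (p4_congr hM e (B.p4 hA hC hc hM hp hS hn))
  · exact B.twelve L hA hc hM hC hp hS (by have := B.n_pos; omega) hi h

end BLike

end Cfsg.Agent.KZ.Cl
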