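import Cfsg.Agent.KZ.Cl.Vec
import Cfsg.Agent.KZ.Cl.Re
import Cfsg.Agent.KZ.Lie.LocA
import Cfsg.Agent.KZ.Tool.Res2

/-!
# KZ, blocks of type `A`: the members of the simple group (helper14)

`B.Ps f s M x μ e ψ` : the member `ψ` of `S` comes from `± B.X f x μ e`.
-/

set_option autoImplicit false
set_option linter.unusedSectionVars false

namespace Cfsg.Agent.KZ.Cl

open Cfsg Cfsg.Agent.DL Cfsg.Agent.DL.PP Cfsg.Agent.KZ.Lie Cfsg.Agent.KZ.Sym Cfsg.Agent.Characters.Core Matrix Equiv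
  Cfsg.Agent.KZ.Res
open scoped ComplexConjugate

theorem N3.inv {x : ℂˣ} (h : N3 x) : N3 x⁻¹ := by simpa using h.zpow (s := -1) (by decide)

theorem N3.zpow_eq {x : ℂˣ} (h : N3 x) {s : ℤ} {m : ℕ} (hm : ¬ 3 ∣ m) (hs : ¬ 3 ∣ s) (e : x ^ (s ^ (2 * m)) = x) :
    x ^ s = x ∨ x ^ s = x⁻¹ := by
  obtain ⟨-, i, hi⟩ := h
  obtain ⟨j, -, hj⟩ := (Nat.dvd_prime_pow Nat.prime_three).1 (orderOf_dvd_of_pow_eq_one hi)
  have h1 : ((3 : ℤ) ^ j) ∣ (s ^ 2) ^ m - 1 := by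
    have h2 : x ^ (s ^ (2 * m) - 1) = 1 := by rw [_root_.zpow_sub, e, zpow_one, mul_inv_cancel]
    have h3 := orderOf_dvd_iff_zpow_eq_one.2 h2
    rwa [hj, pow_mul, Nat.cast_pow] at h3
  have h2 : (3 : ℤ) ∣ s ^ 2 - 1 := by
    obtain ⟨t, rfl | rfl | rfl⟩ : ∃ t, s = 3 * t ∨ s = 3 * t + 1 ∨ s = 3 * t + 2 := ⟨s / 3, by omega⟩
    · exact absurd (Dvd.intro _ rfl) hs
    · exact ⟨3 * t ^ 2 + 2 * t, by ring⟩
    · exact ⟨3 * t ^ 2 + 4 * t + 1, by ring⟩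
  have h3 : ¬ (3 : ℤ) ∣ ∑ i ∈ Finset.range m, (s ^ 2) ^ i := fun h => by
    have h4 : (3 : ℤ) ∣ ∑ i ∈ Finset.range m, ((s ^ 2) ^ i - 1) :=
      Finset.dvd_sum fun i _ => h2.trans (by simpa using sub_dvd_pow_sub_pow (s ^ 2) 1 i)
    rw [Finset.sum_sub_distrib, Finset.sum_const, Finset.card_range, nsmul_eq_mul, mul_one] at h4
    omega
  rw [← geom_sum_mul] at h1
  have h4 : ((3 : ℤ) ^ j) ∣ (s - 1) * (s + 1) := by
    rw [show (s - 1) * (s + 1) = s ^ 2 - 1 by ring]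
    exact (Int.prime_three.pow_dvd_of_dvd_mul_left j h3 h1)
  have h5 : ∀ z : ℤ, (3 : ℤ) ^ j ∣ z → x ^ z = 1 := fun z hz =>
    orderOf_dvd_iff_zpow_eq_one.1 (by rwa [hj, Nat.cast_pow])
  by_cases h6 : (3 : ℤ) ∣ s - 1
  · left
    have h7 := h5 _ (Int.prime_three.pow_dvd_of_dvd_mul_right j (by omega) h4)
    rwa [_root_.zpow_sub, zpow_one, mul_inv_eq_one] at h7
  · right
    have h7 := h5 _ (Int.prime_three.pow_dvd_of_dvd_mul_left j h6 h4)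
    rwa [_root_.zpow_add, zpow_one, mul_eq_one_iff_eq_inv] at h7

variable {p : ℕ} [Fact p.Prime] {k : Type} [Field k] [CharP k p] {Y : Type} [Group Y] {N : Type} [Fintype N]
  [DecidableEq N] {ρ : Y →* GL N k} {F : MulAut Y} {G : Subgroup Y} [IsAlgClosed k] {D : Datum p ρ F G}
  {f : Fr D} [Fintype ↥(GF F G)] {Adm : Matrix D.R D.R ℤ → Prop} {S : Type} [Group S] [Finite S] {M : Ideal AlgInt}

/-- `α` lifts `σ` -/
def Lifts (s : Sit D Adm S) (σ : MulAut S) {α : MulAut Y} {A : Matrix D.R D.R ℤ} (h : Au D α A) : Prop :=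
  ∀ (χ : IrrCharacter ↥(GF F G)) (ψ : S → ℂ), s.Dn χ ψ → s.Dn (fun g => χ.1 (h.aut g)) fun x => ψ (σ x)

theorem exists_lifts (s : Sit D Adm S) (σ : MulAut S) : ∃ α A, ∃ h : Au D α A, Adm A ∧ Lifts s σ h :=
  let ⟨α, A, h, h1, h2, _⟩ := s.exists_aut σ
  ⟨α, A, h, h1, h2⟩

theorem Lifts.mul {s : Sit D Adm S} {σ σ' : MulAut S} {α α' : MulAut Y} {A A' : Matrix D.R D.R ℤ} {h : Au D α A}
    {h' : Au D α' A'} (l : Lifts s σ h) (l' : Lifts s σ' h') : Lifts s (σ * σ') (au_comp h h') :=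
  fun χ ψ h1 => l' (tr h.aut χ) _ (l χ ψ h1)

theorem lifts_of {s : Sit D Adm S} {σ : MulAut S} {α : MulAut Y} {A : Matrix D.R D.R ℤ} (h : Au D α A) {g : Y}
    (hg : g ∈ GF F G) (h1 : ∀ x : ↥s.H0, ∃ x' : ↥s.H0, (x' : Y) = g * α x * g⁻¹ ∧ s.π x' = σ (s.π x)) : Lifts s σ h := by
  intro χ ψ h2 x
  obtain ⟨x', h3, h4⟩ := h1 x
  show ψ (σ (s.π x)) = χ.1 (h.aut _)
  rw [← h4, h2, ← isIrr_isClassFunction χ.2 (h.aut ⟨x, s.le x.2⟩) ⟨g, hg⟩]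
  exact congrArg _ (Subtype.ext h3)

theorem tw_eq_one (hA : Api f) {s : Sit D Adm S} (hc : s.Cop) {cl : Lbl D} (h : s.Tw f cl) (h3 : Is3 D cl) : cl = 1 := by
  obtain ⟨i, hi⟩ := h3
  rw [← pow_one cl, ← (Nat.Coprime.pow_left i ((Nat.Prime.coprime_iff_not_dvd Nat.prime_three).2 hc.idx)).gcd_eq_one]
  exact pow_gcd_eq_one.2 ⟨hi, (h.props hA).2.2.1⟩

namespace Blk

variable {w₀ : D.W} {α : Type} [Fintype α] [DecidableEq α] {xv : D.R → ℤ} (B : Blk D w₀ α xv)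
  {α' : Type} [Fintype α'] [DecidableEq α'] {xv' : D.R → ℤ} (B' : Blk D w₀ α' xv')
  {x x' : ℂˣ} {μ μ' : Perm α → ℂ} {ν : Perm α' → ℂ} {e e' : Bool}

attribute [local instance] ft

theorem rel_of_ip (hF : Fx D w₀ (cx D xv' x')) (h : classInner (B.X f x μ e) (B'.X f x' ν e') ≠ 0) :
    ∃ v, Rel D v (cx D xv x) (cx D xv' x') := by
  by_contra h1
  exact h (B'.ip_X_zero (fun w _ => by_contra fun h2 => h1 (B.rel_of_X h2).2) hF)

/-- the inverse label -/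
theorem X_inv (hx : N3 x) {v : D.W} (h : Rel D v (cx D xv x⁻¹) (cx D xv x)) : B.X f x⁻¹ μ e = B.X f x μ e := by
  rcases B.neg with h1 | ⟨v, hv, h1, h2, h3⟩
  · refine absurd (fun i => hx.dvd ?_) (h1 v)
    have h2 := h (Pi.single i 1)
    rw [chr_cx, chr_cx, dotProduct_mulVec, dotProduct_single, dotProduct_single, mul_one, mul_one] at h2
    rw [Pi.add_apply, _root_.zpow_add, h2, _root_.inv_zpow, inv_mul_cancel]
  have h4 : Rel D v (cx D xv x⁻¹) (cx D xv x) := fun z => by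
    rw [chr_cx, chr_cx, dotProduct_mulVec, h1, neg_dotProduct, _root_.zpow_neg, _root_.inv_zpow]
  let θ : Perm α × B.U → Perm α × B.U := fun γ => (γ.1, ⟨v * γ.2 * v⁻¹, h2 _ γ.2.2⟩)
  have h5 : Function.Injective θ := fun a b e => Prod.ext (Prod.ext_iff.1 e).1 (Subtype.ext (by
    simpa [θ] using congrArg (fun t => (t.2 : D.W)) e))
  have h6 : ∀ γ, ∃ t, Tc D t (B.Φ γ * w₀) (B.Φ (θ γ) * w₀) ∧ Rel D t (cx D xv x⁻¹) (cx D xv x) := fun γ => by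
    have h7 : v * B.j γ.1 = B.j γ.1 * v → ∃ t, Tc D t (B.Φ γ * w₀) (B.Φ (θ γ) * w₀) ∧
        Rel D t (cx D xv x⁻¹) (cx D xv x) := fun h7 => ⟨v, by
      rw [tc_iff', tau_of_mem hv, Φ, Φ, ← mul_assoc v, h7]
      simp [θ, mul_assoc], h4⟩
    rcases h3 γ.1 with h8 | h8
    · exact h7 h8
    rcases B.tau_j γ.1 with h9 | h9
    · rw [h9, one_mul, mul_eq_left] at h8
      exact h7 (by rw [h8, mul_one, one_mul])
    refine ⟨(B.j' γ.1)⁻¹ * v, ?_, h4.trans (by simpa using B.rel3 1 γ.1⁻¹ B.U.one_mem x)⟩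
    rw [tc_iff', tau_mul, tau_inv, h9, tau_of_mem hv, Φ, Φ, mul_assoc _ v, ← mul_assoc v, h8,
      (B.commU _ _ (θ γ).2.2).eq]
    simp [θ, mul_assoc]
  rw [X, X, ← Equiv.sum_comp (Equiv.ofBijective θ (Finite.injective_iff_bijective.1 h5))
    fun γ => B.co μ e γ • RW f (B.Φ γ * w₀) (cx D xv x)]
  refine congrArg _ (Finset.sum_congr rfl fun γ _ => ?_)
  obtain ⟨t, h7, h8⟩ := h6 γ
  rw [Equiv.ofBijective_apply, RW_conj f h7 h8, co, co, se_tc' e h7]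

variable (f) (s : Sit D Adm S) (M) (x μ e) in
/-- the member of `S` given by `± X` -/
def Ps (ψ : IrrCharacter S) : Prop := ∃ (χ : IrrCharacter ↥(GF F G)) (ε : ℂ), (ε = 1 ∨ ε = -1) ∧ Mem M χ ∧
  χ.1 = ε • B.X f x μ e ∧ Mem M ψ ∧ s.Dn χ ψ

variable {B B'} {s : Sit D Adm S} {ψ ψ' : IrrCharacter S}

theorem Ps.mem (h : B.Ps f M x μ e s ψ) : Mem M ψ := let ⟨_, _, _, _, _, h, _⟩ := h; h

theorem exists_ps (hA : Api f) (hC : Mc f w₀) (hc : s.Cop) (hM : IsPModular 3 M) (hx : N3 x)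
    (hF : Fx D w₀ (cx D xv x)) (h3 : ¬ 3 ∣ B.dg.range.index) (μ : IrrCharacter (Perm α))
    (hμ : ¬ 3 ∣ charDegree (μ : Perm α → ℂ)) (e : Bool) : ∃ ψ, B.Ps f M x μ e s ψ := by
  obtain ⟨χ, ε, h1, h2, h4⟩ := B.exists_mem hA hC hM hx hF h3 μ hμ e
  obtain ⟨ψ, h5, h6⟩ := hc.down hA hC.card hM h2
  exact ⟨ψ, χ, ε, h1, h2, h4, h5, h6⟩

theorem Ps.unique (h : B.Ps f M x μ e s ψ) (h' : B.Ps f M x μ e s ψ') : ψ = ψ' := by
  obtain ⟨χ, ε, h1, -, h2, -, h3⟩ := h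
  obtain ⟨χ', ε', h1', -, h2', -, h3'⟩ := h'
  have h4 : χ.1 = χ'.1 := by_contra fun h4 => by
    have h5 := classInner_irr_ne χ.2 χ'.2 h4
    have h6 := classInner_irr_self χ.2
    rw [h2, h2', classInner_smul_left, classInner_smul_right] at h5
    rw [h2, classInner_smul_left, classInner_smul_right] at h6
    rcases h1 with rfl | rfl <;> rcases h1' with rfl | rfl <;> simp_all
  exact Subtype.ext (Sit.Dn.unique h3 (h4 ▸ h3'))

theorem Ps.scalar (hA : Api f) (hM : IsPModular 3 M) (h : B.Ps f M x μ e s ψ) (hF : Fx D w₀ (cx D xv x))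
    {σ : MulAut S} {β : MulAut Y} {A : Matrix D.R D.R ℤ} {hβ : Au D β A} (l : Lifts s σ hβ) {v : D.W} {t : ℤ}
    (hv : D.Wm v * A = t • (1 : Matrix D.R D.R ℤ)) (ht : ¬ 3 ∣ t) : B.Ps f M (x ^ t) μ e s (tr σ ψ) := by
  obtain ⟨χ, ε, h1, h2, h3, h4, h5⟩ := h
  refine ⟨tr hβ.aut χ, ε, h1, (mem_tr hM _).2 h2, funext fun g => ?_, (mem_tr hM _).2 h4, l χ ψ h5⟩
  show χ.1 (hβ.aut g) = _
  rw [h3, Pi.smul_apply, Pi.smul_apply, B.X_scalar hA hβ hv (fun h0 => ht (h0 ▸ dvd_zero 3)) hF]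

theorem Ps.ip (hA : Api f) (hC : Mc f w₀) (hc : s.Cop) (hM : IsPModular 3 M) (h : B.Ps f M x μ e s ψ)
    (h' : B'.Ps f M x' ν e' s ψ) : classInner (B.X f x μ e) (B'.X f x' ν e') ≠ 0 := by
  obtain ⟨χ, ε, -, h1, h2, h4, h3⟩ := h
  obtain ⟨χ', ε', -, h1', h2', -, h3'⟩ := h'
  obtain rfl : χ = χ' := (hc.up hA hC.card hM h4).unique ⟨h1, h3⟩ ⟨h1', h3'⟩
  intro h0
  have h5 := classInner_irr_self χ.2
  conv_lhs at h5 => rw [h2, classInner_smul_left, ← h2, h2', classInner_smul_right, h0]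
  simp at h5

theorem Ps.ne_of (hA : Api f) (hc : s.Cop) (h : B.Ps f M x μ e s ψ) (hx : N3 x)
    (hF : Fx D w₀ (cx D xv x)) (h0 : cx D xv x ≠ 1) (hμ : IsIrrCharacter (Perm α) μ) {χ : IrrCharacter ↥(GF F G)}
    (h2 : s.Dn χ ψ') (h3 : ∀ w c, c ≠ 1 → classInner χ.1 (RW f w c) = 0) : ψ ≠ ψ' := by
  obtain ⟨χ', ε, h4, -, h6, -, h8⟩ := h
  refine h8.ov.ne hA h2.ov fun cl hcl => ⟨w₀, cx D xv x, ?_⟩
  rw [h3 _ _ fun h9 => h0 ?_, h6, classInner_smul_left, B.ip_X_one hx hF (isIrr_isClassFunction hμ)]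
  · rcases h4 with rfl | rfl <;> simpa using isIrr_apply_one_ne_zero hμ
  · rw [← h9, tw_eq_one hA hc hcl ((is3_cx xv hx).imp fun i hi => ?_), mul_one]
    rw [eq_inv_of_mul_eq_one_right h9, inv_pow, hi, inv_one]

/-- an automorphism which moves the label to another class -/
theorem Ps.rel (hA : Api f) (hC : Mc f w₀) (hc : s.Cop) (hM : IsPModular 3 M) (h : B.Ps f M x μ e s ψ) (hx : N3 x)
    (hF : Fx D w₀ (cx D xv x)) (hμ : IsIrrCharacter (Perm α) μ) {σ : MulAut S} {β : MulAut Y} {A : Matrix D.R D.R ℤ}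
    {hβ : Au D β A} (l : Lifts s σ hβ) (h' : B'.Ps f M x' ν e' s (tr σ ψ)) :
    ∃ v, ∀ z, chr ((A * D.Wm v) *ᵥ z) (cx D xv x) = chr z (cx D xv' x') := by
  obtain ⟨χ, ε, h0, h1, h2, h4, h3⟩ := h
  obtain ⟨χ', ε', -, h1', h2', h4', h3'⟩ := h'
  obtain rfl : tr hβ.aut χ = χ' := (hc.up hA hC.card hM h4').unique ⟨(mem_tr hM _).2 h1, l χ ψ h3⟩ ⟨h1', h3'⟩
  obtain ⟨a, ha⟩ := (hA.aut β A hβ).1
  have h5 := ip_aut hA hβ χ.1 (w := a.symm w₀) (w' := w₀) (c := mon Aᵀ (cx D xv x))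
    (by rw [← ha, a.apply_symm_apply]) (fun z => (chr_tr D A z _).symm) hF
  have h6 : classInner χ.1 (RW f w₀ (cx D xv x)) ≠ 0 := by
    rw [h2, classInner_smul_left, B.ip_X_one hx hF (isIrr_isClassFunction hμ)]
    rcases h0 with rfl | rfl <;> simpa using isIrr_apply_one_ne_zero hμ
  rw [h5, show (fun g => χ.1 (hβ.aut g)) = _ from h2', classInner_smul_left] at h6
  obtain ⟨-, v, hv⟩ := B'.rel_of_X (right_ne_zero_of_mul h6)
  exact ⟨v, fun z => by rw [← hv z, chr_tr, mulVec_mulVec]⟩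

end Blk

end Cfsg.Agent.KZ.Cl
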