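import Cfsg.Agent.KZ.Cl.Fam
import Cfsg.Agent.KZ.Lie.Ext
import Cfsg.Agent.KZ.Tool.Up
import Cfsg.Agent.KZ.Alt.Syl

/-!
# KZ, the B-like groups: the abelianization of a Sylow `3`-subgroup (helper14)

Upper bound `BLike.nab_le`; lower bounds `BLike.low_in`, `BLike.low`.
-/

set_option autoImplicit false
set_option linter.unusedSectionVars false

namespace Cfsg.Agent.KZ.Cl

open Cfsg Cfsg.Agent.DL Cfsg.Agent.DL.PP Cfsg.Agent.KZ.Lie Matrix Equiv Cfsg.Agent.KZ.Res Cfsg.Agent.KZ.Dat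
open scoped commutatorElement

/-- roots of unity -/
abbrev R3 (a : ℕ) : Type := {x : ℂˣ // x ^ 3 ^ a = 1}

/-- vectors of roots of unity -/
abbrev Mu (n a : ℕ) : Type := {y : Fin n → ℂˣ // y ^ 3 ^ a = 1}

theorem card_R3 (a : ℕ) : Nat.card (R3 a) = 3 ^ a := Complex.card_rootsOfUnity (3 ^ a)

theorem card_Mu (n a : ℕ) : Nat.card (Mu n a) = (3 ^ a) ^ n := by
  rw [Nat.card_congr (show Mu n a ≃ (Fin n → R3 a) from
    ⟨fun y i => ⟨y.1 i, congrFun y.2 i⟩, fun y => ⟨fun i => y i, funext fun i => (y i).2⟩, fun _ => rfl, fun _ => rfl⟩),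
    Nat.card_fun, card_R3, Nat.card_fin]

theorem finite_R3 (a : ℕ) : Finite (R3 a) := Nat.finite_of_card_ne_zero (by rw [card_R3]; positivity)

theorem finite_Mu (n a : ℕ) : Finite (Mu n a) := Nat.finite_of_card_ne_zero (by rw [card_Mu]; positivity)

theorem nab_perm {n k l : ℕ} (hk : k ≤ 2) (hl : l ≤ n) (h : 3 ^ k ∣ l.factorial) (T : Sylow 3 (Perm (Fin n))) :
    3 ^ k ≤ nab T := by
  have h1 := Alt.pow_le_card T hl h
  have h2 : 3 ^ k ≤ 3 ^ 2 := Nat.pow_le_pow_right (by norm_num) hk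
  rcases Alt.nine_le_or T.2 with h3 | h3 <;> unfold nab <;> omega

theorem perm_cen {α : Type} [DecidableEq α] {z : Perm α} (h : ∀ u, z * u = u * z) (h3 : z ^ 3 = 1) : z = 1 :=
  Equiv.ext fun i => by
    have h1 : z (z i) = i := by simpa using DFunLike.congr_fun (h (swap i (z i))) i
    simpa [pow_succ, h1] using DFunLike.congr_fun h3 i

theorem cube_root {x y : ℂˣ} (hx : x ^ 3 = 1) (hy : y ^ 3 = 1) (h : y = 1 → x = 1) (h' : x = 1 → y = 1) :
    y = x ∨ y = x⁻¹ := by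
  by_cases h1 : x = 1
  · exact .inl ((h' h1).trans h1.symm)
  have : Fact (Nat.Prime 3) := ⟨Nat.prime_three⟩
  have h2 : IsPrimitiveRoot x 3 := orderOf_eq_prime hx h1 ▸ IsPrimitiveRoot.orderOf x
  obtain ⟨i, h3, rfl⟩ := h2.eq_pow_of_mem_rootsOfUnity hy
  interval_cases i
  · exact absurd (h rfl) h1
  · exact .inl (pow_one x)
  · exact .inr (eq_inv_of_mul_eq_one_left (by rw [← pow_succ, hx]))

variable {p : ℕ} [Fact p.Prime] {k : Type} [Field k] [CharP k p] {Y : Type} [Group Y] {N : Type} [Fintype N]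
  [DecidableEq N] {ρ : Y →* GL N k} {F : MulAut Y} {G : Subgroup Y} [IsAlgClosed k] {D : Datum p ρ F G}
  [Fintype ↥(GF F G)] {Adm : Matrix D.R D.R ℤ → Prop} {w₀ : D.W} {n a : ℕ} {f : Fr D} {S : Type} [Group S] [Finite S]
  {s : Sit D Adm S} {A : Type} [Group A] [Finite A] {N₀ : Subgroup A} [hN : N₀.Normal] {P : Sylow 3 A}

theorem fam3 (hA : Api f) (hc : s.Cop) {X : Type} {c : X → Lbl D} (h1 : ∀ i, Fx D w₀ (c i)) (h2 : ∀ i, Is3 D (c i))
    (h3 : Function.Injective c) : Fam3 f s w₀ c :=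
  ⟨h1, fun i => (s.z1_of_is3 hA hc.ker (h2 i)).zw _, h2, fun i j cl h e => h3 (by
    obtain ⟨u, hu⟩ := h2 i
    obtain ⟨v, hv⟩ := h2 j
    rw [e, tw_eq_one hA hc h ⟨u + v, ?_⟩, mul_one]
    rw [← inv_mul_cancel_left (c j) cl, ← e, mul_pow, inv_pow, pow_one_of_dvd hu (pow_dvd_pow 3 (by omega)),
      pow_one_of_dvd hv (pow_dvd_pow 3 (by omega)), inv_one, one_mul])⟩

theorem is3_tr {B : Matrix D.R D.R ℤ} {c c' : Lbl D} (h : Tr D B c c') (h' : Is3 D c') : Is3 D c :=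
  h'.imp fun i hi => eq_of_chr D fun z => by rw [map_pow, ← h z, ← map_pow, hi, map_one, map_one]

/-- an invariant character of the torus has an invariant label -/
theorem tr_of_inv (L : Loc2 f s w₀ A N₀ P) (hA : Api f) (hc : s.Cop) {x : A} (hx : x ∈ L.Ah) {c : Lbl D}
    (h1 : Fx D w₀ c) (h2 : Is3 D c)
    (h : ∀ t t' : ↥L.Tb, (t : A) ∈ (P : Subgroup A) → (t' : A) = x * t * x⁻¹ → L.Θ c t' = L.Θ c t) :
    Tr D (L.B x) c c := by
  have h3 : Tr D (L.B x) (mon (L.B x)ᵀ c) c := fun z => (chr_tr D _ z c).symm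
  obtain ⟨h4, -, h5⟩ := L.B_Θ x hx _ _ h3 h1 ((s.z1_of_is3 hA hc.ker h2).zw _)
  have h6 := L.sep (fam3 hA hc (c := fun c : {c // Fx D w₀ c ∧ Is3 D c} => c.1) (fun c => c.2.1) (fun c => c.2.2)
    Subtype.val_injective) L.P_le (i := ⟨_, h4, is3_tr h3 h2⟩) (j := ⟨c, h1, h2⟩) fun t ht =>
      (h5 t ⟨_, L.Tb_norm x hx t t.2⟩ rfl).symm.trans (h t _ ht rfl)
  rwa [show mon (L.B x)ᵀ c = c from congrArg Subtype.val h6] at h3

namespace BLike

variable (B : BLike D Adm w₀ n a)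

theorem cx_n (x : ℂˣ) : cx D (ind n n ᵥ* B.L) x = lab D B.L fun _ => x :=
  (cx_lab _ _ _).trans (congrArg _ (funext fun i => by rw [ind, if_pos i.2, zpow_one]))

theorem sn_dg (g : Perm (Fin n)) : B.sn (B.bk.dg g) = 1 := funext fun i => by
  obtain ⟨xs, h3, -⟩ := exists_xs 1 1 (by norm_num)
  have h := (B.rel_lab (B.bk.dg g) (fun _ => xs 0) fun _ => xs 0).1 (by
    rw [← cx_n]
    exact rel_cx (by simpa [Blk.coe_dg] using B.bk.fix3 g g B.bk.U.one_mem) _) i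
  refine (Int.units_eq_one_or _).resolve_right fun h1 => absurd ((h3 0).1.dvd (z := -1 - 1) ?_) (by decide)
  rw [h1] at h
  rw [_root_.zpow_sub, zpow_one, mul_inv_eq_one]
  exact h

theorem exists_σ : ∃ σ : Perm (Fin n) →* ↥(CW D w₀), ∀ g, B.κ (σ g) = g ∧ B.sn (σ g) = 1 :=
  let e := MulEquiv.ofBijective (B.κ.comp B.bk.dg) (Finite.injective_iff_bijective.1 ((injective_iff_map_eq_one _).2
    fun g hg => B.bk.dg_inj (Subtype.ext ((B.inj _ (B.bk.dg g).2 (by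
      rw [L_Wm, show B.κ _ = 1 from hg, sn_dg, spm_one, Matrix.one_mul])).trans
        (congrArg Subtype.val (map_one B.bk.dg)).symm))))
  ⟨B.bk.dg.comp e.symm.toMonoidHom, fun g => ⟨e.apply_symm_apply g, B.sn_dg _⟩⟩

/-- the permutations of the coordinates -/
noncomputable def σ : Perm (Fin n) →* ↥(CW D w₀) := B.exists_σ.choose

theorem κ_σ (g : Perm (Fin n)) : B.κ (B.σ g) = g := (B.exists_σ.choose_spec g).1

theorem σ_inj : Function.Injective B.σ := Function.LeftInverse.injective B.κ_σ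

theorem rel_σ {g : Perm (Fin n)} {y y' : Fin n → ℂˣ} :
    Rel D (B.σ g) (lab D B.L y) (lab D B.L y') ↔ ∀ i, y' (g i) = y i := by
  rw [rel_lab, κ_σ, show B.sn (B.σ g) = 1 from (B.exists_σ.choose_spec g).2]
  simp

theorem exists_R (T : Sylow 3 (Perm (Fin n))) :
    ∃ R : Sylow 3 ↥(CW D w₀), (R : Subgroup ↥(CW D w₀)) = (T : Subgroup (Perm (Fin n))).map B.σ ∧ nab R = nab T := by
  have : Fact (Nat.Prime 3) := ⟨Nat.prime_three⟩
  have e := (T : Subgroup (Perm (Fin n))).equivMapOfInjective _ B.σ_inj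
  have h1 : Nat.card ↥((T : Subgroup (Perm (Fin n))).map B.σ) = 3 ^ (Nat.card ↥(CW D w₀)).factorization 3 := by
    rw [← Nat.card_congr e.toEquiv, T.card_eq_multiplicity, le_antisymm B.fact_le
      ((Nat.factorization_le_iff_dvd Nat.card_pos.ne' Nat.card_pos.ne').2 (Subgroup.card_dvd_of_injective _ B.σ_inj) 3)]
  exact ⟨Sylow.ofCard _ h1, rfl, (index_comm_congr e).symm⟩

include B in
theorem sq_adm {C : Matrix D.R D.R ℤ} (h : AdmB D Adm w₀ C) :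
    ∃ w ∈ CW D w₀, ∃ t : ℤ, ¬ 3 ∣ t ∧ C * C = t • D.Wm w := by
  obtain ⟨⟨v, E, h1, h2⟩, h3, -⟩ := h
  obtain ⟨w, t, h4, h5⟩ : ∃ w, ∃ t : ℤ, ¬ 3 ∣ t ∧ C * C = t • D.Wm w := by
    rcases B.adm E h1 with ⟨u, t, h4, h5⟩ | ⟨-, ⟨t, h4, h5⟩, h6, -⟩
    · have h6 : C = t • D.Wm (v * u⁻¹) := by
        rw [← mul_one (D.Wm _), ← Matrix.mul_smul, ← h5, ← mul_assoc, ← D.Wm_mul, inv_mul_cancel_right, h2]
      exact ⟨v * u⁻¹ * (v * u⁻¹), t * t, fun h => h4 ((Int.prime_three.dvd_or_dvd h).elim id id), by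
        rw [h6, smul_mul_smul_comm, ← D.Wm_mul]⟩
    · obtain ⟨w, hw⟩ := h6 v
      exact ⟨v * w, t, h4, by
        rw [h2, mul_assoc, hw, ← mul_assoc E, h5, smul_mul_assoc, one_mul, mul_smul_comm, D.Wm_mul]⟩
  refine ⟨w, mem_CW_iff.2 (smul_right_injective _ (fun h : t = 0 => h4 (h ▸ dvd_zero 3)) ?_), t, h4, h5⟩
  simp only
  rw [← smul_mul_assoc, ← mul_smul_comm, ← h5, mul_assoc, h3, ← mul_assoc, h3, mul_assoc]

include B in
theorem inn : Lie.Inn D Adm w₀ where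
  cen z hz h h3 := congrArg Subtype.val (B.eq_one_of_ker (v := ⟨z, hz⟩) (i := 1) (perm_cen (fun u => by
      rw [← B.κ_σ u, ← map_mul, ← map_mul]
      exact congrArg _ (Subtype.ext (h _ (B.σ u).2)))
    (by rw [← map_pow, show (⟨z, hz⟩ : CW D w₀) ^ 3 = 1 from Subtype.ext h3, map_one])) (Subtype.ext h3))
  sq C h := by
    obtain ⟨w, h1, t, -, h2⟩ := B.sq_adm h
    exact ⟨w, h1, fun u _ => by
      rw [h2, mul_smul_comm, smul_mul_assoc, ← D.Wm_mul, ← D.Wm_mul, inv_mul_cancel_right]⟩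

theorem pow_const {b : ℕ} (hb : b ≤ a) {x : ℂˣ} (h : x ^ 3 ^ b = 1) : (fun _ : Fin n => x) ^ 3 ^ a = 1 :=
  funext fun _ => pow_one_of_dvd h (pow_dvd_pow 3 hb)

/-- a matrix which centralises the relative Weyl group -/
theorem tr_const {C : Matrix D.R D.R ℤ} (h : AdmB D Adm w₀ C) (h' : ∀ u ∈ CW D w₀, D.Wm u * C = C * D.Wm u) {x : ℂˣ}
    (hx : x ^ 3 = 1) : Tr D C (lab D B.L fun _ => x) (lab D B.L fun _ => x) ∨
      Tr D C (lab D B.L fun _ => x)⁻¹ (lab D B.L fun _ => x) := by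
  have h0 := pow_const (n := n) B.a_pos (x := x) hx
  have h1 : Tr D C (mon Cᵀ (lab D B.L fun _ => x)) (lab D B.L fun _ => x) := fun z => (chr_tr D _ z _).symm
  obtain ⟨y, -, h2⟩ := B.lab_surj _ (fun z => by rw [← h1, mulVec_mulVec, h.2.1, ← mulVec_mulVec, B.fx_lab h0, h1])
    (is3_tr h1 (is3_lab _ h0))
  rw [h2] at h1
  obtain ⟨u, rfl⟩ : ∃ u, y = fun _ => u := ⟨y ⟨0, B.n_pos⟩, funext fun i => by
    have h3 := B.rel_σ (g := swap ⟨0, B.n_pos⟩ i) (y := y) (y' := y) |>.1 (fun z => by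
      rw [← h1, mulVec_mulVec, ← h' _ (B.σ _).2, ← mulVec_mulVec, B.rel_σ.2 fun _ => rfl, h1]) ⟨0, B.n_pos⟩
    rwa [swap_apply_left] at h3⟩
  obtain ⟨z, hz⟩ := B.L_surj (Pi.single ⟨0, B.n_pos⟩ 1)
  have h3 : ∀ u : ℂˣ, chr z (lab D B.L fun _ => u) = u := fun u => by rw [chr_lab, hz, chr_single]
  rcases cube_root hx (y := u) (by
      rw [← h3 u, ← h1, ← map_pow, ← lab_pow, show (fun _ : Fin n => x) ^ 3 = 1 from funext fun _ => hx, lab_one', map_one])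
    (fun h4 => by_contra fun h5 => by
      obtain ⟨w, -, t, h6, h7⟩ := B.sq_adm h
      have h8 := h1 (C *ᵥ D.Wm w⁻¹ *ᵥ z)
      rw [mulVec_mulVec, h7, smul_mulVec, mulVec_mulVec, ← D.Wm_mul, mul_inv_cancel, D.Wm_one, one_mulVec, chr_zsmul, h3,
        h4, show (fun _ : Fin n => (1 : ℂˣ)) = 1 from rfl, lab_one', map_one] at h8
      exact h6 (N3.dvd ⟨h5, 1, hx⟩ h8))
    (fun h4 => by rw [← h3 u, ← h1, h4, show (fun _ : Fin n => (1 : ℂˣ)) = 1 from rfl, lab_one', map_one]) with rfl | rfl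
  · exact .inl h1
  · exact .inr (by rwa [show (lab D B.L fun _ => x)⁻¹ = lab D B.L fun _ => x⁻¹ from
      funext fun _ => (map_inv (chr _) fun _ => x).symm])

variable (L : Loc2 f s w₀ A N₀ P) (hA : Api f) (hc : s.Cop)
include L hA hc

include B in
/-- lower bound for `P ≤ N₀` -/
theorem low_in (hP : (P : Subgroup A) ≤ N₀) (T : Sylow 3 (Perm (Fin n))) {H : Subgroup (Perm (Fin n))}
    (h1 : (T : Subgroup _) ≤ H) (h2 : SplE ↥H) {X : Type} [Finite X] (y : X → Fin n → ℂˣ) (h3 : ∀ i, y i ^ 3 ^ a = 1)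
    (h4 : Function.Injective y) (h5 : ∀ i, ∀ g ∈ H, ∀ j, y i (g j) = y i j) : nab T * Nat.card X ≤ nab P := by
  obtain ⟨R, h6, h7⟩ := B.exists_R T
  refine h7 ▸ L.nab_ge_in hA hP R (fam3 hA hc (fun i => B.fx_lab (h3 i)) (fun i => is3_lab _ (h3 i)) (B.lab_inj.comp h4))
    fun i => ⟨H.map ((CW D w₀).subtype.comp B.σ), ?_, ?_,
      h2.congr (H.equivMapOfInjective _ (Subtype.val_injective.comp B.σ_inj)), ?_⟩
  · rintro _ ⟨g, -, rfl⟩
    exact (B.σ g).2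
  · rw [h6]
    rintro _ ⟨g, hg, rfl⟩
    exact ⟨g, h1 hg, rfl⟩
  · rintro _ ⟨g, hg, rfl⟩
    exact ⟨1, s.tw_one, (mul_one (lab D B.L (y i))).symm ▸ B.rel_σ.2 (h5 i g hg)⟩

include B in
/-- lower bound in general -/
theorem low (hcyc : IsCyclic ↥((P : Subgroup A).map (QuotientGroup.mk' N₀))) (T : Sylow 3 (Perm (Fin n))) :
    nab T * out N₀ P * 3 ≤ nab P := by
  obtain ⟨R, h6, h7⟩ := B.exists_R T
  have := finite_R3 1
  have h1 := L.nab_ge hA B.inn hcyc R (fam3 hA hc (c := fun x : R3 1 => lab D B.L fun _ => x.1)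
    (fun x => B.fx_lab (pow_const B.a_pos x.2)) (fun x => is3_lab _ (pow_const B.a_pos x.2))
    fun x x' h => Subtype.ext (congrFun (B.lab_inj h) ⟨0, B.n_pos⟩))
    (fun x => ⟨((CW D w₀).subtype.comp B.σ).range, by rintro _ ⟨g, rfl⟩; exact (B.σ g).2,
      by rw [h6]; rintro _ ⟨g, -, rfl⟩; exact ⟨g, rfl⟩,
      (spl_perm _).congr (MonoidHom.ofInjective (Subtype.val_injective.comp B.σ_inj)), by
        rintro _ ⟨g, rfl⟩
        exact ⟨1, s.tw_one, by rw [mul_one]; exact B.rel_σ.2 fun _ => rfl⟩⟩)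
    fun x C h h' => ⟨1, s.tw_one, by rw [mul_one, mul_one]; exact B.tr_const h h' x.2⟩
  rwa [h7, card_R3] at h1

/-- the characters of `P ⊓ Tb` -/
theorem exists_y (l : ↥(L.Tb.subgroupOf (P : Subgroup A)) →* ℂˣ) : ∃ y : Mu n a,
    ∀ (t : ↥L.Tb) (h : (t : A) ∈ (P : Subgroup A)), L.Θ (lab D B.L y) t = l ⟨⟨t, h⟩, t.2⟩ := by
  obtain ⟨θ, h1⟩ := exists_ext_lin (K := (P : Subgroup A) ⊓ L.Tb) L.Tb_comm inf_le_right
    (l.comp (MonoidHom.mk' (fun t => ⟨⟨t, t.2.1⟩, t.2.2⟩) fun _ _ => rfl))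
  obtain ⟨c, h2, h3, h4⟩ := L.Θ_surj θ
  obtain ⟨j, hj⟩ := P.2.exists_card_eq
  obtain ⟨m, i, h5, h6⟩ := exists_three_exp (n := Nat.card L.Tb * s.H1.index)
    (mul_ne_zero Nat.card_pos.ne' Subgroup.index_ne_zero_of_finite) j
  obtain ⟨y, h7, h8⟩ := B.lab_surj (c ^ m) (fx_pow h2 m) ⟨i, by
    rw [← pow_mul]
    refine pow_one_of_dvd ?_ h6
    rw [pow_mul]
    exact (((L.Θ_one _ (fx_pow h2 _) (h3.pow h2 _)).1 fun t => by
      rw [L.Θ_pow h2 h3, h4, ← map_pow, pow_card_eq_one', map_one]).props hA).2.2.1⟩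
  refine ⟨⟨y, h7⟩, fun t h => ?_⟩
  rw [← h8, L.Θ_pow h2 h3, h4, pow_eq_pow_of_modEq h5 (by
    rw [← map_pow, show t ^ 3 ^ j = 1 from Subtype.ext (congrArg (fun x : ↥(P : Subgroup A) => (x : A))
      (show (⟨t, h⟩ : ↥(P : Subgroup A)) ^ 3 ^ j = 1 from hj ▸ pow_card_eq_one')), map_one]), pow_one]
  exact h1 ⟨t, h, t.2⟩

/-- upper bound -/
theorem nab_le : nab P ≤ (L.Tb.subgroupOf (P : Subgroup A)).index *
    Nat.card {y : Mu n a // ∀ x ∈ (P : Subgroup A), Tr D (L.B x) (lab D B.L y) (lab D B.L y)} := by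
  have := finite_Mu n a
  rw [nab, ← Subgroup.relIndex_mul_index (le_sup_left : commutator _ ≤ commutator _ ⊔ L.Tb.subgroupOf (P : Subgroup A)),
    Subgroup.relIndex_sup_left, mul_comm]
  refine Nat.mul_le_mul (Subgroup.index_antitone le_sup_right) ?_
  rw [Subgroup.relIndex, ← card_lin (N := (commutator _).subgroupOf _) fun _ _ => Subgroup.mem_subgroupOf.2
    (Subgroup.commutator_mem_commutator (Subgroup.mem_top _) (Subgroup.mem_top _))]
  choose y hy using B.exists_y L hA hc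
  refine Nat.card_le_card_of_injective (fun l => ⟨y l.1, fun x hx => tr_of_inv L hA hc (L.P_le hx) (B.fx_lab (y _).2)
    (is3_lab _ (y _).2) fun t t' ht e => ?_⟩) fun l l' e => Subtype.ext (MonoidHom.ext fun t => ?_)
  · have h1 : (t' : A) ∈ (P : Subgroup A) := e ▸ mul_mem (mul_mem hx ht) (inv_mem hx)
    rw [hy _ t ht, hy _ t' h1, ← mul_inv_eq_one, ← map_inv, ← map_mul]
    refine l.2 _ ?_
    have h2 := Subgroup.commutator_mem_commutator (Subgroup.mem_top (⟨x, hx⟩ : ↥(P : Subgroup A)))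
      (Subgroup.mem_top (⟨t, ht⟩ : ↥(P : Subgroup A)))
    rwa [show ⁅(⟨x, hx⟩ : ↥(P : Subgroup A)), (⟨t, ht⟩ : ↥(P : Subgroup A))⁆ = ⟨t', h1⟩ * ⟨t, ht⟩⁻¹ from
      Subtype.ext (congrArg (· * (t : A)⁻¹) e.symm)] at h2
  · exact (hy _ ⟨t, t.2⟩ t.1.2).symm.trans ((congrArg (fun y => L.Θ (lab D B.L y.1.1) ⟨t, t.2⟩) e).trans (hy _ _ t.1.2))

include B in
theorem le_card : (3 ^ a) ^ n ≤ Nat.card ↥(L.Tb.subgroupOf (P : Subgroup A)) := by
  have hf := fam3 hA hc (c := fun y : Mu n a => lab D B.L y) (fun y => B.fx_lab y.2) (fun y => is3_lab _ y.2)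
    (B.lab_inj.comp Subtype.val_injective)
  have : Finite (↥(L.Tb.subgroupOf (P : Subgroup A)) →* ℂˣ) :=
    Nat.finite_of_card_ne_zero (by rw [card_hom_eq]; exact Subgroup.index_ne_zero_of_finite)
  rw [← card_Mu]
  refine le_trans ?_ ((card_hom_eq _).le.trans (Nat.le_of_dvd Nat.card_pos (Subgroup.index_dvd_card _)))
  exact Nat.card_le_card_of_injective (fun y => (L.thH (hf.fx y) (hf.zw y)).comp
    (MonoidHom.mk' (fun t => ⟨t.1, t.2⟩) fun _ _ => rfl)) fun y y' e =>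
      L.sep hf L.P_le fun t ht => DFunLike.congr_fun e ⟨⟨t, ht⟩, t.2⟩

include B in
theorem pow_eq_one (v : ↥(L.Tb.subgroupOf (P : Subgroup A))) : v ^ 3 ^ a = 1 := by
  let _ : CommGroup ↥(L.Tb.subgroupOf (P : Subgroup A)) :=
    { (inferInstance : Group _) with mul_comm := fun x y => Subtype.ext (Subtype.ext (L.Tb_comm _ x.2 _ y.2)) }
  have : NeZero (Monoid.exponent ↥(L.Tb.subgroupOf (P : Subgroup A))) := ⟨Monoid.exponent_ne_zero_of_finite⟩
  by_contra h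
  obtain ⟨l, hl⟩ := CommGroup.exists_apply_ne_one_of_hasEnoughRootsOfUnity _ ℂ h
  obtain ⟨y, hy⟩ := B.exists_y L hA hc l
  have h1 := B.fx_lab y.2
  have h2 := (s.z1_of_is3 hA hc.ker (is3_lab B.L y.2)).zw w₀
  refine hl ?_
  rw [map_pow, ← show _ = l v from hy ⟨v, v.2⟩ v.1.2, ← L.Θ_pow h1 h2, ← lab_pow, y.2, lab_one', ← pow_zero (lab D B.L y),
    L.Θ_pow h1 h2, pow_zero]

omit hA hc in
include B in
theorem relIndex_dvd : ∃ j, 3 ^ j ∣ n.factorial ∧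
    (L.Tb.subgroupOf (P : Subgroup A)).relIndex (N₀.subgroupOf (P : Subgroup A)) = 3 ^ j := by
  have : Fact (Nat.Prime 3) := ⟨Nat.prime_three⟩
  have h0 := P.2.to_subgroup (N₀.subgroupOf (P : Subgroup A))
  obtain ⟨j, hj⟩ := h0.index ((L.Tb.subgroupOf (P : Subgroup A)).subgroupOf _)
  refine ⟨j, ?_, hj⟩
  let φ : ↥(N₀.subgroupOf (P : Subgroup A)) →* ↥(CW D w₀) :=
    L.ωC.comp (MonoidHom.mk' (fun q => ⟨q.1, L.N1_eq.ge ⟨L.P_le q.1.2, q.2⟩⟩) fun _ _ => rfl)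
  have h1 : (L.Tb.subgroupOf (P : Subgroup A)).subgroupOf _ = (B.κ.comp φ).ker := Subgroup.ext fun q => by
    refine Iff.trans (L.ω_ker ⟨q.1, L.N1_eq.ge ⟨L.P_le q.1.2, q.2⟩⟩).symm ⟨fun h => ?_, fun h => ?_⟩
    · rw [MonoidHom.mem_ker, MonoidHom.comp_apply, show φ q = 1 from Subtype.ext h, map_one]
    · obtain ⟨i, hi⟩ := h0 q
      exact congrArg Subtype.val (B.eq_one_of_ker (v := φ q) h (i := i) (by rw [← map_pow, hi, map_one]))
  rw [← hj, h1, Subgroup.index_ker]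
  exact (Subgroup.card_subgroup_dvd_card _).trans (by rw [Nat.card_perm, Nat.card_fin])

end BLike

end Cfsg.Agent.KZ.Cl
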